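import Cfsg.Agent.EX.Defs

/-! Project EX: the symplectic calculus in the extraspecial subgroup. -/

set_option autoImplicit false

namespace Cfsg.Agent.EX

open Subgroup Cfsg.Agent.SR3
open scoped commutatorElement

universe u

variable {G : Type u} [Group G] [Finite G] {p : ℕ} [hp : Fact p.Prime]
  {S Q Z E X Y A B : Subgroup G} {a b e g q x y : G}

namespace Xs

theorem ZQ (h : Xs p S Q Z) : Z ≤ Q := h.zQ.ge.trans inf_le_left

theorem ZS (h : Xs p S Q Z) : Z ≤ S := h.ZQ.trans h.le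

theorem ceZ (h : Xs p S Q Z) : S ≤ ce Z := le_centralizer_iff.1 (h.zS.ge.trans inf_le_right)

theorem Zce (h : Xs p S Q Z) : Z ≤ ce S := h.zS.ge.trans inf_le_right

theorem nmZ (h : Xs p S Q Z) : nm S ≤ nm Z := fun _ hg => h.zS ▸ nm_inf hg (nm_ce hg)

theorem nZ (h : Xs p S Q Z) : S ≤ nm Z := le_normalizer.trans h.nmZ

theorem nQ (h : Xs p S Q Z) : S ≤ nm Q := le_nm_of_card h.pg h.le h.card.le

theorem StQ (h : Xs p S Q Z) : S ≤ St S Q := le_St_of_card h.pg h.le le_rfl le_normalizer h.nQ h.card.le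

theorem StZ (h : Xs p S Q Z) : Q ≤ St Q Z := le_St (h.le.trans h.nZ) h.comm

theorem powZ (h : Xs p S Q Z) (hx : x ∈ Z) : x ^ p = 1 := h.cZ ▸ congrArg Subtype.val (pow_card_eq_one' (x := (⟨x, hx⟩ : Z)))

theorem cm (h : Xs p S Q Z) (hx : x ∈ Z) (hg : g ∈ S) : Commute g x := h.Zce hx g hg

theorem comm_zpow0 (h : Xs p S Q Z) (ha : a ∈ Q) (hb : b ∈ Q) (i j : ℤ) :
    ⁅a ^ i, b ^ j⁆ = ⁅a, b⁆ ^ (i * j) :=
  mul_inv_eq_one.1 (mem_bot.1 (comm_zpow (Y := ⊥) nm_bot nm_bot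
    (commutatorElement_eq_one_iff_commute.2 (h.cm (h.comm a ha b hb) (h.le ha)))
    (commutatorElement_eq_one_iff_commute.2 (h.cm (h.comm a ha b hb) (h.le hb))) i j))

theorem pow (h : Xs p S Q Z) (hx : x ∈ Q) : x ^ p ∈ Z := h.zQ.le ⟨pow_mem hx p, fun y hy => by
    have := h.comm_zpow0 hx hy p 1
    rw [mul_one, zpow_natCast, zpow_natCast, zpow_one, h.powZ (h.comm x hx y hy)] at this
    exact (commutatorElement_eq_one_iff_mul_comm.1 this).symm⟩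

theorem gen (h : Xs p S Q Z) (he : e ∈ S) (he' : e ∉ Q) : Q ⊔ zpowers e = S := sup_zpowers_eq h.pg h.le h.card.le he he'

theorem zpow_eq (h : Xs p S Q Z) (hx : x ∈ Z) (hx' : x ≠ 1) : zpowers x = Z := H91.eq_of_le_of_card_le (zpowers_le.2 hx) (by rw [h.cZ, card_zpowers_eq (h.powZ hx) hx'])

theorem inf_cj (h : Xs p S Q Z) (hg : g ∉ nm Z) : Z ⊓ cj g Z = ⊥ := eq_of_card' (X := ⊥) (h.pg.to_le h.ZS) bot_le inf_le_left (by simp [h.cZ]) fun e =>
    hg (mem_nm_iff.2 (H91.eq_of_le_of_card_le (e.trans inf_le_right) (card_cj g Z).le).symm)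

theorem comm_mul_l (h : Xs p S Q Z) (ha : a ∈ Q) (hb : b ∈ Q) (hx : x ∈ Q) :
    ⁅a * b, x⁆ = ⁅a, x⁆ * ⁅b, x⁆ := by
  rw [comm_mul_left, (h.cm (h.comm b hb x hx) (h.le ha)).eq, mul_inv_cancel_right]
  exact (h.cm (h.comm a ha x hx) (h.ZS (h.comm b hb x hx))).eq

theorem comm_mul_r (h : Xs p S Q Z) (ha : a ∈ Q) (hb : b ∈ Q) (hx : x ∈ Q) :
    ⁅x, a * b⁆ = ⁅x, a⁆ * ⁅x, b⁆ := by rw [comm_mul_right, (h.cm (h.comm x hx b hb) (h.le ha)).eq, mul_inv_cancel_right]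

theorem comm_zpow' (h : Xs p S Q Z) (ha : a ∈ Q) (hb : b ∈ Q) (i j : ℤ) :
    ⁅a ^ i, b ^ j⁆ = ⁅a, b⁆ ^ (i * j) := h.comm_zpow0 ha hb i j

theorem comm_conj (h : Xs p S Q Z) (hg : g ∈ S) (ha : a ∈ Q) (hb : b ∈ Q) :
    ⁅g * a * g⁻¹, g * b * g⁻¹⁆ = ⁅a, b⁆ := by rw [← conj_comm, (h.cm (h.comm a ha b hb) hg).eq, mul_inv_cancel_right]

theorem mul_pow' (h : Xs p S Q Z) (ha : a ∈ Q) (hb : b ∈ Q) : (a * b) ^ p = a ^ p * b ^ p := H3.mul_pow_of_odd_of_commute_commutator (h.cm (h.comm b hb a ha) (h.le ha))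
    (h.cm (h.comm b hb a ha) (h.le hb)) h.odd (h.powZ (h.comm b hb a ha))

theorem comm_pow (h : Xs p S Q Z) (hq : q ∈ Q) (hg : g ∈ S) : ⁅q, g⁆ ^ p = 1 := by
  rw [show ⁅q, g⁆ = q * (g * q⁻¹ * g⁻¹) by rw [commutatorElement_def]; group,
    h.mul_pow' hq (conj_mem (h.nQ hg) (inv_mem hq)), conj_pow,
    (h.cm (h.pow (inv_mem hq)) hg).eq, mul_inv_cancel_right, inv_pow, mul_inv_cancel]

theorem St_one (h : Xs p S Q Z) (hY : Z ≤ Y) (hn : S ≤ nm Y) (he : e ∈ S) (he' : e ∉ Q) :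
    Q ⊓ St {e} Y = Q ⊓ St S Y := by
  refine le_antisymm (fun q hq => ⟨hq.1, ?_⟩) (inf_le_inf_left _ (St_anti (by simpa using he)))
  rw [← h.gen he he']
  exact mem_St_sup_zpowers (h.le.trans hn) (hn he)
    ⟨hn (h.le hq.1), fun y hy => hY (h.comm q hq.1 y hy)⟩ (mem_St_one.1 hq.2).2

theorem card_ce (h : Xs p S Q Z) (hA : A ≤ Q) (hx : x ∈ Q) :
    Nat.card A ≤ p * Nat.card ↥(A ⊓ centralizer {x}) := by
  have := idx (X := A) (Y := Z) (Z := ⊥) (a := x) (fun _ _ => nm_bot)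
    (fun a ha => h.comm a (hA ha) x hx) bot_le
  rwa [card_bot, mul_one, St_bot, h.cZ, mul_comm] at this

theorem pair (h : Xs p S Q Z) (hA : A ≤ Q) (hB : B ≤ Q) (hZ : Z ≤ B) :
    Nat.card A * Nat.card ↥(B ⊓ ce A) ≤ Nat.card ↥(A ⊓ ce B) * Nat.card B := by
  have key : ∀ n, ∀ X, B ⊓ ce A ≤ X → X ≤ B → Nat.card B ≤ Nat.card X + n →
      Nat.card A * Nat.card ↥(B ⊓ ce A) ≤ Nat.card ↥(A ⊓ ce X) * Nat.card X →
      Nat.card A * Nat.card ↥(B ⊓ ce A) ≤ Nat.card ↥(A ⊓ ce B) * Nat.card B := by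
    intro n
    induction n with
    | zero => exact fun X _ h2 h3 h4 => H91.eq_of_le_of_card_le h2 h3 ▸ h4
    | succ n ih =>
      intro X h1 h2 h3 h4
      obtain e | e := em (B ≤ X)
      · exact le_antisymm h2 e ▸ h4
      obtain ⟨b, hb, hb'⟩ := SetLike.not_le_iff_exists.1 e
      have hX : Z ≤ X := (le_inf hZ (h.Zce.trans (centralizer_le (hA.trans h.le)))).trans h1
      have c := card_sup_zpowers (St_le_nm hX (h2.trans hB) (h.StZ (hB hb))) (hX (h.pow (hB hb))) hb'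
      have c' := h.card_ce (inf_le_left.trans hA : A ⊓ ce X ≤ Q) (hB hb)
      have c'' := H91.card_le_of_le (show A ⊓ ce X ⊓ centralizer {b} ≤ A ⊓ ce (X ⊔ zpowers b) from
        fun a ha => ⟨ha.1.1, H91.Q5.mem_ce_sup ha.1.2
          (commutatorElement_eq_one_iff_mul_comm.2 (ha.2 b rfl).symm)⟩)
      have := hp.out.two_le
      have : 0 < Nat.card X := Nat.card_pos
      refine ih _ (h1.trans le_sup_left) (sup_le h2 (zpowers_le.2 hb)) (by nlinarith) (h4.trans ?_)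
      rw [c]
      nlinarith [Nat.mul_le_mul_right (Nat.card X) (c'.trans (Nat.mul_le_mul_left p c''))]
  refine key (Nat.card B) _ le_rfl inf_le_left le_add_self (Nat.mul_le_mul_right _ ?_)
  exact H91.card_le_of_le (le_inf le_rfl (le_centralizer_iff.1 inf_le_right))

/-- Duality. -/
theorem dual (h : Xs p S Q Z) (h1 : Z ≤ X) (h2 : X ≤ Q) :
    Nat.card X * Nat.card ↥(Q ⊓ ce X) = p * Nat.card Q := by
  have e : X ⊓ ce Q = Z := le_antisymm ((inf_le_inf_right _ h2).trans h.zQ.le)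
    (le_inf h1 (h.zQ.ge.trans inf_le_right))
  have a := h.pair h2 le_rfl h.ZQ
  have b := h.pair le_rfl h2 h1
  rw [e, h.cZ] at a b
  nlinarith

theorem card_ab (h : Xs p S Q Z) (h2 : X ≤ Q) (h3 : X ≤ ce X) :
    Nat.card X * Nat.card X ≤ p * Nat.card Q := by
  have l : X ⊔ Z ≤ Q := sup_le h2 h.ZQ
  have c1 := H91.card_le_of_le (le_sup_left : X ≤ X ⊔ Z)
  have c2 := H91.card_le_of_le (show X ≤ Q ⊓ ce (X ⊔ Z) from le_inf h2
    (le_centralizer_iff.1 (sup_le h3 (h.Zce.trans (centralizer_le (h2.trans h.le))))))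
  exact h.dual le_sup_right l ▸ Nat.mul_le_mul c1 c2

theorem comm_mem_ce (h : Xs p S Q Z) (hq : q ∈ Q) (hg : g ∈ S) :
    ⁅q, g⁆ ∈ Q ⊓ ce (Q ⊓ St S Z) := by
  have h1 := conj_mem (h.nQ hg) (inv_mem hq)
  refine ⟨comm_symm (comm_mem_of_nm (h.nQ hg) hq), H91.Q5.mem_ce_of fun t ht => ?_⟩
  have h2 := comm_symm (ht.2.2 g hg)
  have e := h.comm_conj hg (inv_mem hq) ht.1
  rw [conj_eq_comm g t, h.comm_mul_r (h.ZQ h2) ht.1 h1,
    commutatorElement_eq_one_iff_commute.2 (h.cm h2 (h.le h1)), one_mul] at e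
  rw [show ⁅q, g⁆ = q * (g * q⁻¹ * g⁻¹) by rw [commutatorElement_def]; group,
    h.comm_mul_l hq h1 ht.1, e, ← h.comm_mul_l hq (inv_mem hq) ht.1]
  simp

/-- The commutator space is the annihilator of the fixed space. -/
theorem exists_comm (h : Xs p S Q Z) (he : e ∈ S) (he' : e ∉ Q) (hy : y ∈ Q ⊓ ce (Q ⊓ St S Z)) :
    ∃ q ∈ Q, ⁅q, e⁆ * y⁻¹ ∈ Z := by
  have cq : ∀ {q}, q ∈ Q → ⁅q, e⁆ ∈ Q := fun hq => comm_symm (comm_mem_of_nm (h.nQ he) hq)
  have nz := h.le.trans h.nZ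
  let I : Subgroup G :=
    { carrier := {y | y ∈ Q ∧ ∃ q ∈ Q, ⁅q, e⁆ * y⁻¹ ∈ Z}
      one_mem' := ⟨one_mem _, 1, one_mem _, by simp⟩
      mul_mem' := fun {a b} ⟨ha, q, hq, e1⟩ ⟨hb, r, hr, e2⟩ => ⟨mul_mem ha hb, r * q, mul_mem hr hq, by
        have := mul_mem (mul_mem (h.comm r hr _ (cq hq)) e1) (conj_mem (nz ha) e2)
        convert this using 1
        simp only [commutatorElement_def]; group⟩
      inv_mem' := fun {a} ⟨ha, q, hq, e1⟩ => ⟨inv_mem ha, q⁻¹, inv_mem hq, by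
        have := mul_mem (h.comm _ (inv_mem hq) _ (inv_mem (cq hq)))
          (conj_mem (nz (inv_mem ha)) (inv_mem e1))
        convert this using 1
        simp only [commutatorElement_def]; group⟩ }
  have ZT : Z ≤ Q ⊓ St S Z := le_inf h.ZQ (le_St_symm (fun s hs => mem_St_self (h.nZ hs)) le_normalizer)
  have l : I ≤ Q ⊓ ce (Q ⊓ St S Z) := fun y ⟨_, q, hq, e⟩ => by
    have := mul_mem (inv_mem (show _ ∈ Q ⊓ ce (Q ⊓ St S Z) from ⟨h.ZQ e, centralizer_le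
      (inf_le_left.trans h.le : Q ⊓ St S Z ≤ S) (h.Zce e)⟩)) (h.comm_mem_ce hq he)
    rwa [mul_inv_rev, inv_inv, inv_mul_cancel_right] at this
  have c := idx (X := Q) (Y := I) (a := e) nz
    (fun q hq => ⟨cq hq, q, hq, by rw [mul_inv_cancel]; exact one_mem _⟩)
    fun z hz => ⟨h.ZQ hz, 1, one_mem _, by simpa using hz⟩
  rw [h.St_one le_rfl h.nZ he he', h.cZ, mul_comm, ← h.dual ZT inf_le_left] at c
  exact ((H91.eq_of_le_of_card_le l (Nat.le_of_mul_le_mul_left c Nat.card_pos)).ge hy).2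

theorem nmQ (h : Xs p S Q Z) (hc : Nat.card ↥(Q ⊓ St S Z) ≤ p ^ 3) : nm S ≤ nm Q := fun g hg => by_contra fun e => by
  have l : cj g Q ≤ S := cj_eq hg ▸ cj_mono g h.le
  have n : ¬ cj g Q ≤ Q := fun e' => e (mem_nm_of_cj_le e')
  have c := card_le_inf h.pg l (by rw [card_cj]; exact h.card.le) h.le
  obtain ⟨y, hy, hy'⟩ := SetLike.not_le_iff_exists.1 n
  have s : cj g Q ≤ St (cj g Q) Z := by
    have := cj_mono g h.StZ
    rwa [cj_St, cj_eq (h.nmZ hg)] at this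
  have c2 := H91.card_le_of_le (show Q ⊓ cj g Q ≤ Q ⊓ St S Z from h.St_one le_rfl h.nZ (l hy) hy' ▸
    fun x hx => ⟨hx.1, mem_St_one.2 ⟨h.nZ (h.le hx.1), (s hx.2).2 y hy⟩⟩)
  have := h.big.trans (c.trans (Nat.mul_le_mul_left p (c2.trans hc)))
  rw [← pow_succ'] at this
  exact absurd ((Nat.pow_le_pow_iff_right hp.out.one_lt).1 this) (by norm_num)

theorem lt_St (h : Xs p S Q Z) (h1 : Y ≤ X) (h2 : X ≤ Q) (n1 : S ≤ nm Y) (n2 : S ≤ nm X)
    (hne : ¬ X ≤ Y) : ∃ x ∈ X, x ∉ Y ∧ x ∈ St S Y := by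
  obtain ⟨x, h3, h4, -, h5⟩ := exists_central h.pg (h2.trans h.le) n1 n2 hne
  exact ⟨x, h3, h4, n1 (h.le (h2 h3)), fun s hs => comm_symm (h5 s hs)⟩

theorem Up_le (h : Xs p S Q Z) (n : ℕ) : Up S Q Z n ≤ Q := by cases n; exacts [h.ZQ, inf_le_left]

theorem nm_Up0 (h : Xs p S Q Z) (hg : g ∈ nm S) (hg' : g ∈ nm Q) (n : ℕ) :
    g ∈ nm (Up S Q Z n) := by
  induction n with
  | zero => exact h.nmZ hg
  | succ n ih => exact nm_inf hg' (nm_St hg ih)

theorem nUp (h : Xs p S Q Z) (n : ℕ) : S ≤ nm (Up S Q Z n) :=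
  fun _ hs => h.nm_Up0 (le_normalizer hs) (h.nQ hs) n

theorem Up_mono0 (h : Xs p S Q Z) (n : ℕ) : Up S Q Z n ≤ Up S Q Z (n + 1) :=
  le_inf (h.Up_le n) (le_St_symm (fun _ hs => mem_St_self (h.nUp n hs)) le_normalizer)

theorem le_Up (h : Xs p S Q Z) (n : ℕ) : Z ≤ Up S Q Z n := by
  induction n with
  | zero => exact le_rfl
  | succ n ih => exact ih.trans (h.Up_mono0 n)

theorem nm_Up (h : Xs p S Q Z) (hg : g ∈ nm S) (hg' : g ∈ nm Q) (n : ℕ) :
    g ∈ nm (Up S Q Z n) := h.nm_Up0 hg hg' n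

theorem Up_mono (h : Xs p S Q Z) (n : ℕ) : Up S Q Z n ≤ Up S Q Z (n + 1) := h.Up_mono0 n

theorem exists_not_mem (h : Xs p S Q Z) : ∃ e ∈ S, e ∉ Q :=
  H91.Q5.exists_not_mem h.card

theorem Up_succ (h : Xs p S Q Z) (he : e ∈ S) (he' : e ∉ Q) (n : ℕ) :
    Up S Q Z (n + 1) = Q ⊓ St {e} (Up S Q Z n) := (h.St_one (h.le_Up n) (h.nUp n) he he').symm

theorem Up_p (h : Xs p S Q Z) : Up S Q Z p = Q := by
  obtain ⟨e, he, he'⟩ := h.exists_not_mem
  have := normal_subgroupOf_of_le_normalizer (h.le.trans h.nZ)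
  let π := QuotientGroup.mk' (Z.subgroupOf Q)
  have hπ : ∀ x : Q, π x = 1 ↔ (x : G) ∈ Z := fun x => QuotientGroup.eq_one_iff x
  letI : CommGroup (Q ⧸ Z.subgroupOf Q) :=
    { mul_comm := fun a b => by
        obtain ⟨a, rfl⟩ := QuotientGroup.mk'_surjective _ a
        obtain ⟨b, rfl⟩ := QuotientGroup.mk'_surjective _ b
        rw [← commutatorElement_eq_one_iff_mul_comm, ← map_commutatorElement]
        exact (hπ _).2 (h.comm _ a.2 _ b.2) }
  let α : MulAut Q := Q.normalizerMonoidHom ⟨e, h.nQ he⟩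
  let u : AddMonoid.End (Additive (Q ⧸ Z.subgroupOf Q)) := MonoidHom.toAdditive
    (QuotientGroup.map _ _ α.toMonoidHom fun x hx => conj_mem (h.nZ he) hx)
  have hu : ∀ x : Q, u (.ofMul (π x)) = .ofMul (π (α x)) := fun _ => rfl
  have hn : ∀ (n : ℕ) (x : Q), (u ^ n) (.ofMul (π x)) = .ofMul (π ((α ^ n) x)) := fun n => by
    induction n with
    | zero => exact fun _ => rfl
    | succ n ih => exact fun x => by rw [pow_succ, pow_succ]; exact ih (α x)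
  have h1 : u ^ p = 1 := DFunLike.ext _ _ fun x => by
    obtain ⟨x, rfl⟩ : ∃ y, Additive.ofMul (π y) = x := QuotientGroup.mk'_surjective _ x
    rw [hn, ← map_pow]
    refine congrArg Additive.ofMul (mul_inv_eq_one.1 ?_)
    rw [← map_inv, ← map_mul, hπ]
    exact h.comm _ (pow_mem_of_card h.pg h.le h.card.le he) _ x.2
  have h2 : (p : AddMonoid.End (Additive (Q ⧸ Z.subgroupOf Q))) = 0 := DFunLike.ext _ _ fun x => by
    obtain ⟨x, rfl⟩ : ∃ y, Additive.ofMul (π y) = x := QuotientGroup.mk'_surjective _ x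
    rw [AddMonoid.End.natCast_apply, ← ofMul_pow, ← map_pow, (hπ _).2 (h.pow x.2)]
    rfl
  have h3 : (u - 1) ^ p = 0 := by
    have := (Commute.one_right (u - 1)).add_pow_prime_eq hp.out
    rw [sub_add_cancel, h1, h2, zero_mul, zero_mul, zero_mul, add_zero, one_pow] at this
    simpa using this.symm
  have key : ∀ (n : ℕ) (x : Q), ((u - 1) ^ n) (.ofMul (π x)) = 0 → (x : G) ∈ Up S Q Z n := fun n => by
    induction n with
    | zero => exact fun x hx => (hπ x).1 hx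
    | succ n ih =>
      intro x hx
      rw [h.Up_succ he he']
      refine ⟨x.2, mem_St_one.2 ⟨h.nUp n (h.le x.2), comm_symm (ih (α x * x⁻¹) ?_)⟩⟩
      rw [← hx, pow_succ, map_mul, map_inv, ofMul_mul, ofMul_inv, ← sub_eq_add_neg]
      rfl
  exact le_antisymm (h.Up_le p) fun x hx => key p ⟨x, hx⟩ (by rw [h3]; rfl)

theorem card_Up (h : Xs p S Q Z) (hc : Nat.card ↥(Q ⊓ St S Z) ≤ p ^ 2) {k n : ℕ}
    (hk : Nat.card Q = p ^ (k + 1)) (hn : n ≤ k) : Nat.card (Up S Q Z n) = p ^ (n + 1) := by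
  obtain ⟨e, he, he'⟩ := h.exists_not_mem
  have up : ∀ n, Nat.card (Up S Q Z (n + 1)) ≤ p * Nat.card (Up S Q Z n) := fun n => by
    induction n with
    | zero => exact hc.trans (by rw [sq]; exact (congrArg _ h.cZ).ge)
    | succ n ih =>
      have := idx (X := Up S Q Z (n + 2)) (a := e) ((h.Up_le _).trans (h.le.trans (h.nUp n)))
        (fun x hx => hx.2.2 e he) (h.Up_mono n)
      have c := H91.card_le_of_le (show Up S Q Z (n + 2) ⊓ St {e} (Up S Q Z n) ≤ Up S Q Z (n + 1) from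
        h.Up_succ he he' n ▸ inf_le_inf_right _ (h.Up_le _))
      refine Nat.le_of_mul_le_mul_right (this.trans ?_) (Nat.card_pos (α := Up S Q Z n))
      nlinarith [Nat.mul_le_mul c ih]
  induction n with
  | zero => exact h.cZ.trans (pow_one p).symm
  | succ n ih =>
    have ih := ih (by omega)
    rw [pow_succ', ← ih]
    refine le_antisymm (up n) (mul_card_le (h.pg.to_le ((h.Up_le _).trans h.le))
      (lt_of_le_not_ge (h.Up_mono n) fun e => ?_))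
    obtain ⟨x, h1, h2, h3⟩ := h.lt_St (h.Up_le n) le_rfl (h.nUp n) h.nQ fun e => by
      have := H91.card_le_of_le e
      rw [hk, ih, Nat.pow_le_pow_iff_right hp.out.one_lt] at this
      omega
    exact h2 (e ⟨h1, h3⟩)


end Xs

theorem Mv.ZE (h : Xs p S Q Z) (m : Mv p S Q Z E) : Z ≤ E := by
  have := m.cen 1
  rw [cj_one] at this
  exact (le_inf h.ZS (h.Zce.trans (centralizer_le m.le))).trans (this m.le)

theorem Mv.card (h : Xs p S Q Z) (m : Mv p S Q Z E) :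
    Nat.card E = p * Nat.card ↥(E ⊓ Q) := card_eq_inf h.pg h.le h.card.le m.le m.nle

theorem Mv.par (h : Xs p S Q Z) (m : Mv p S Q Z E) (hc : Nat.card ↥(S ⊓ nm E) = p * Nat.card E)
    (hz : S ⊓ nm E ⊓ ce (S ⊓ nm E) = Z) : Par p (S ⊓ nm E) E := ⟨m.loc, hc, fun e => m.mv (m.loc.inv_of_tr le_rfl (m.ZE h) bot_le le_rfl (fun _ _ => nm_bot) e
    fun _ hg => hz ▸ nm_inf hg.1 (nm_ce hg.1))⟩


end Cfsg.Agent.EX
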