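import Cfsg.Agent.EX.Basic

/-! Project EX: another conjugate of the centre lies in `Q`. -/

set_option autoImplicit false

namespace Cfsg.Agent.EX

open Subgroup Cfsg.Agent.SR3 Cfsg.Agent.H91.Q5
open scoped commutatorElement

universe u

variable {G : Type u} [Group G] [Finite G] {p : ℕ} [hp : Fact p.Prime] {S Q Z E : Subgroup G}
  {g : G}

namespace CC

variable {A B D Y : Subgroup G} {a b c d t w x y : G}

omit [Finite G] hp in
theorem comm_cen (ha : a ∈ E) (hb : b ∈ E) (hc : c ∈ E ⊓ ce E) (hd : d ∈ E ⊓ ce E) :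
    ⁅c * a, d * b⁆ = ⁅a, b⁆ := by
  rw [comm_mul_left, comm_of_ce hc.2 (mul_mem hd.1 hb), mul_one, comm_mul_right,
    commutatorElement_eq_one_iff_mul_comm.2 (hd.2 a ha), one_mul,
    ← hd.2 _ (comm_mem_of_nm (le_normalizer ha) hb), mul_inv_cancel_right,
    ← hc.2 _ (comm_mem_of_nm (le_normalizer ha) hb), mul_inv_cancel_right]

/-- The elements of order dividing `p` of `Q`. -/
def Om (h : Xs p S Q Z) : Subgroup G where
  carrier := {q | q ∈ Q ∧ q ^ p = 1}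
  one_mem' := ⟨one_mem _, one_pow _⟩
  mul_mem' := fun ha hb => ⟨mul_mem ha.1 hb.1, by rw [h.mul_pow' ha.1 hb.1, ha.2, hb.2, one_mul]⟩
  inv_mem' := fun ha => ⟨inv_mem ha.1, by rw [inv_pow, ha.2, inv_one]⟩

/-- The elements inverted by `t` modulo `W`. -/
def Uo (hn : E ≤ St E Y) (ht : t ∈ nm E) : Subgroup G where
  carrier := {x | x ∈ E ∧ t * x * t⁻¹ * x ∈ Y}
  one_mem' := ⟨one_mem _, by simp [one_mem]⟩
  mul_mem' := fun {x y} hx hy => ⟨mul_mem hx.1 hy.1, by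
    have : t * (x * y) * t⁻¹ * (x * y) = t * x * t⁻¹ * ⁅t * y * t⁻¹, x⁆ * (t * x * t⁻¹)⁻¹ *
        (t * x * t⁻¹ * x) * (t * y * t⁻¹ * y) := by simp only [commutatorElement_def]; group
    exact this ▸ mul_mem (mul_mem (conj_mem (hn (conj_mem ht hx.1)).1
      ((hn (conj_mem ht hy.1)).2 x hx.1)) hx.2) hy.2⟩
  inv_mem' := fun {x} hx => ⟨inv_mem hx.1, by
    have : t * x⁻¹ * t⁻¹ * x⁻¹ = (x * (t * x * t⁻¹ * x) * x⁻¹)⁻¹ := by group
    exact this ▸ inv_mem (conj_mem (hn hx.1).1 hx.2)⟩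

/-- The data of the case. -/
structure Cc (p : ℕ) (S Q Z E : Subgroup G) (g : G) : Prop where
  xs : Xs p S Q Z
  mv : Mv p S Q Z E
  gE : g ∈ nm E
  gZ : g ∉ nm Z
  le : cj g Z ≤ Q

namespace Cc

variable (h : Cc p S Q Z E g)
include h

omit hp in
theorem ne : ¬ cj g Z ≤ Z := fun c => h.gZ (mem_nm_of_cj_le c)

omit [Finite G] hp in
theorem key : S ⊓ ce (cj g Z) = E := h.mv.key g h.gE h.gZ

omit [Finite G] hp in
theorem pE : IsPGroup p E := h.xs.pg.to_le h.mv.le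

omit [Finite G] hp in
theorem pQ : IsPGroup p Q := h.xs.pg.to_le h.xs.le

omit [Finite G] hp in
theorem pF : IsPGroup p ↥(E ⊓ Q) := h.pE.to_le inf_le_left

theorem cE : Nat.card E = p * Nat.card ↥(E ⊓ Q) := h.mv.card h.xs

theorem cEQ : Nat.card E = Nat.card Q := by
  obtain ⟨z, hz, hz'⟩ := SetLike.not_le_iff_exists.1 h.ne
  have l : Q ⊓ centralizer {z} ≤ E ⊓ Q := fun x hx => ⟨h.key.le ⟨h.xs.le hx.1,
    mem_ce_gen (W := ⊥) (h.pQ.to_le h.le) bot_le (by rw [card_cj, h.xs.cZ, card_bot, mul_one])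
      (mem_ce_of fun y hy => by rw [mem_bot.1 hy, commutatorElement_one_right]) hz
      (fun c => hz' (mem_bot.1 c ▸ one_mem _)) (commutatorElement_eq_one_iff_mul_comm.2
        (mem_centralizer_singleton_iff.1 hx.2))⟩, hx.1⟩
  have c1 := (h.xs.card_ce le_rfl (h.le hz)).trans (Nat.mul_le_mul_left _ (card_le_of_le l))
  have c2 := mul_card_le h.xs.pg (lt_of_le_not_ge h.mv.le fun c => h.ne ((le_inf
    (h.le.trans h.xs.le) (ce_symm (c.trans (h.key.ge.trans inf_le_right)))).trans h.xs.zS.le))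
  rw [h.xs.card] at c2
  exact (Nat.le_of_mul_le_mul_left c2 hp.out.pos).antisymm (h.cE ▸ c1)

theorem cS : Nat.card S = p * Nat.card E := by rw [h.cEQ, h.xs.card]

theorem cQ : Nat.card Q = p * Nat.card ↥(E ⊓ Q) := h.cEQ ▸ h.cE

theorem par : Par p S E := by
  have e : S ⊓ nm E = S := inf_eq_left.2 (le_nm_of_card h.xs.pg h.mv.le h.cS.le)
  have := h.mv.par h.xs (by rw [e]; exact h.cS) (by rw [e]; exact h.xs.zS)
  rwa [e] at this

theorem exab : ∃ a ∈ E ⊓ Q, ∃ b ∈ E ⊓ Q, ⁅a, b⁆ ≠ 1 := by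
  by_contra c
  push Not at c
  have c1 := h.xs.card_ab inf_le_right fun a ha => mem_ce_of (c a ha)
  have c2 := h.xs.big
  rw [h.cQ, ← mul_assoc] at c1
  rw [h.cQ] at c2
  have := c2.trans (Nat.mul_le_mul_left _ (Nat.le_of_mul_le_mul_right c1 Nat.card_pos))
  rw [← sq, ← pow_succ', Nat.pow_le_pow_iff_right hp.out.one_lt] at this
  omega

theorem kill (h1 : ⁅x, y⁆ ∈ Z) (h2 : ⁅g⁻¹ * x * g⁻¹⁻¹, g⁻¹ * y * g⁻¹⁻¹⁆ ∈ Z) : ⁅x, y⁆ = 1 :=
  mem_bot.1 ((h.xs.inf_cj h.gZ).le ⟨h1, mem_cj.2 (by rwa [← conj_comm, inv_inv] at h2)⟩)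

theorem kill' (h1 : g ∈ nm Y) (h2 : Y ≤ St E Z) : Y ≤ ce E := fun _ hx => mem_ce_of fun y hy =>
  h.kill ((h2 hx).2 y hy) ((h2 (conj_mem (inv_mem h1) hx)).2 _ (conj_mem (inv_mem h.gE) hy))

theorem nSt (hy : y ∈ E) (hy' : y ∉ E ⊓ Q) (h1 : y ∈ St (E ⊓ Q : Subgroup G) Z) : False := by
  have n : E ≤ nm Z := h.mv.le.trans h.xs.nZ
  obtain ⟨a, ha, b, hb, c⟩ := h.exab
  refine c (comm_of_ce (h.kill' h.gE (le_gen h.pE inf_le_left h.cE.le (fun x hx => ?_) hy hy' ?_)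
    ha.1) hb.1)
  · exact mem_St_gen h.pE inf_le_left h.cE.le n (St_anti (fun _ c => c.2) (h.xs.StZ hx.2)) hy hy'
      (comm_symm (h1.2 x hx))
  · exact mem_St_gen h.pE inf_le_left h.cE.le n h1 hy hy' (by simp [one_mem])

theorem ab : E ⊓ Q ⊓ cj g (E ⊓ Q) ≤ ce (E ⊓ Q ⊓ cj g (E ⊓ Q)) := fun x hx =>
  mem_ce_of fun y hy => h.kill (h.xs.comm x hx.1.2 y hy.1.2) (by
    rw [inv_inv]; exact h.xs.comm _ (mem_cj.1 hx.2).2 _ (mem_cj.1 hy.2).2)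

omit [Finite G] hp in
theorem cjE : cj g (E ⊓ Q) ≤ E := (cj_mono g inf_le_left).trans (cj_eq h.gE).le

theorem cjF : ¬ cj g (E ⊓ Q) ≤ E ⊓ Q := fun c => by
  obtain ⟨a, ha, b, hb, e⟩ := h.exab
  have := h.ab
  rw [cj_eq (mem_nm_of_cj_le c), inf_idem] at this
  exact e (comm_of_ce (this ha) hb)

theorem cF : Nat.card ↥(E ⊓ Q) = p ^ 4 := by
  have c1 := h.xs.card_ab (inf_le_left.trans inf_le_right) h.ab
  have c2 := card_eq_inf h.pE inf_le_left h.cE.le h.cjE h.cjF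
  have c3 := h.xs.big
  rw [card_cj, inf_comm (cj g _)] at c2
  rw [h.cQ, c2, ← mul_assoc, ← mul_assoc] at c1
  rw [h.cQ, pow_succ'] at c3
  refine le_antisymm ?_ (Nat.le_of_mul_le_mul_left c3 hp.out.pos)
  rw [c2]
  exact (Nat.mul_le_mul_left _ (Nat.le_of_mul_le_mul_right c1 Nat.card_pos)).trans_eq (by ring)

theorem ZW : Z ≤ Wc p S E := fun _ hz => Zo_le_Wc (mem_Zo.2 ⟨h.xs.zS.ge hz, h.xs.powZ hz⟩)

theorem gW : cj g Z ≤ Wc p S E := (cj_mono g h.ZW).trans (cj_eq (nm_Wc h.gE)).le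

theorem Wz : Wc p S E ≤ E ⊓ ce E := h.par.Wc_le

theorem WE : Wc p S E ≤ E := h.Wz.trans inf_le_left

theorem WQ : Wc p S E ≤ Q := by
  obtain ⟨a, ha, b, hb, c⟩ := h.exab
  refine (Wc_le (X := ⁅E, E⁆) ((Zo_le.trans h.xs.zS.le).trans ?_) ?_).trans
    (commutator_le.2 fun x hx y hy => (h.xs.StQ (h.mv.le hx)).2 y (h.mv.le hy))
  · rw [← h.xs.zpow_eq (h.xs.comm a ha.2 b hb.2) c]
    exact zpowers_le.2 (commutator_mem_commutator ha.1 hb.1)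
  · rw [Subgroup.commutator_def]
    refine le_nm_closure ?_
    rintro k hk _ ⟨x, hx, y, hy, rfl⟩
    exact ⟨_, conj_mem hk hx, _, conj_mem hk hy, (conj_comm ..).symm⟩

theorem cW' : Nat.card ↥(Q ⊓ ce (E ⊓ Q)) = p ^ 2 := by
  have := h.xs.dual (le_inf (h.mv.ZE h.xs) h.xs.ZQ) inf_le_right
  rw [h.cQ, h.cF] at this
  exact Nat.eq_of_mul_eq_mul_left (pow_pos hp.out.pos 4) (this.trans (by ring))

theorem Weq : Wc p S E = Q ⊓ ce (E ⊓ Q) :=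
  eq_of_card (h.pQ.to_le inf_le_left) h.ZW (le_inf h.WQ ((h.Wz.trans inf_le_right).trans
    (centralizer_le fun _ c => c.1))) (by rw [h.cW', h.xs.cZ, sq]) fun c => h.ne (h.gW.trans c)

theorem cW : Nat.card (Wc p S E) = p ^ 2 := h.Weq ▸ h.cW'

theorem zE : E ⊓ ce E ≤ Wc p S E := fun y hy => by
  by_cases c : y ∈ E ⊓ Q
  · exact h.Weq.ge ⟨c.2, centralizer_le (fun _ c => c.1) hy.2⟩
  · exact (h.nSt hy.1 c (ce_le_St inf_le_left (h.mv.ZE h.xs) hy.2)).elim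

theorem exists_t : ∃ t ∈ nm S, t ∈ Cl S E ∧ (orderOf t).Coprime p ∧
    (∀ x ∈ Wc p S E, t * x * t⁻¹ * x = 1) ∧ (∀ x ∈ Wc p S E, Commute t x → x = 1) ∧
    t ∈ St S E :=
  h.par.invol h.xs.odd h.WE bot_le nm_Wc (fun _ _ => nm_bot) (by rw [h.cW, card_bot, mul_one])
    ((ce_symm (h.Wz.trans inf_le_right)).trans (St_ce _).ge) (fun _ => h.par.Wc_pow)
    (h.par.not_tr_Wc fun c => h.ne ((le_inf (h.le.trans h.xs.le) (h.gW.trans c)).trans h.xs.zS.le))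

theorem ntr : ¬ Tr p S E E (Wc p S E) := fun c => by
  obtain ⟨t, -, t1, t2, -, t3, -⟩ := h.exists_t
  obtain ⟨a, ha, b, hb, e⟩ := h.exab
  have := c.mem t1 t2
  refine e (t3 _ (h.ZW (h.xs.comm a ha.2 b hb.2)) (mul_inv_eq_iff_eq_mul.1 ?_))
  rw [conj_comm, conj_eq_comm, conj_eq_comm,
    comm_cen ha.1 hb.1 (h.Wz (this.2 a ha.1)) (h.Wz (this.2 b hb.1))]

theorem StE : S ⊓ St E (Wc p S E) ≤ E := h.par.St_le le_rfl h.WE le_rfl nm_Wc h.ntr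

theorem StW : St S Z ≤ St E (Wc p S E) := St_mono h.mv.le h.ZW (h.WE.trans h.mv.le)

theorem TF : Q ⊓ St S Z ≤ E ⊓ Q :=
  le_inf ((inf_le_inf h.xs.le h.StW).trans h.StE) inf_le_left

theorem nmQ : nm S ≤ nm Q := by
  obtain ⟨y, hy, hy'⟩ := exists_not_mem h.cE
  have := mul_card_le h.pF (lt_of_le_not_ge h.TF fun c => h.nSt hy hy'
    ⟨h.xs.nZ (h.mv.le hy), fun x hx => comm_symm ((c hx).2.2 y (h.mv.le hy))⟩)
  rw [h.cF, pow_succ'] at this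
  exact h.xs.nmQ (Nat.le_of_mul_le_mul_left this hp.out.pos)

theorem exists_w (t0 : t ∈ nm S) (t2 : (orderOf t).Coprime p)
    (t3 : ∀ x ∈ Wc p S E, Commute t x → x = 1) (t4 : t ∈ St S E) :
    ∃ w ∈ Om h.xs, w ∉ E ⊓ Q ∧ Commute t w := by
  obtain ⟨x, hx, hx'⟩ := exists_not_mem h.cQ
  obtain ⟨y, hy, w, c, rfl⟩ := cop_dec (x := x) t2 h.pF (nm_inf t4.1 (h.nmQ t0))
    ⟨t4.2 x (h.xs.le hx), comm_mem_of_nm (h.nmQ t0) hx⟩
  have hw : w ∈ Q := (mul_mem_cancel_left (show y ∈ Q from hy.2)).1 hx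
  exact ⟨w, ⟨hw, t3 _ (h.ZW (h.xs.pow hw)) (c.pow_right p)⟩, fun e => hx' (mul_mem hy e), c⟩

theorem c6 : Nat.card S = p ^ 6 := by rw [h.cS, h.cE, h.cF]; ring

theorem caseG (hn : ¬ E ≤ St E (Wc p S E)) : ∃ a, HypG p S Q Z a := by
  obtain ⟨t, t0, -, t2, -, t3, t4⟩ := h.exists_t
  obtain ⟨w, hw, hw', -⟩ := h.exists_w t0 t2 t3 t4
  have n : E ≤ nm (Wc p S E) := le_normalizer.trans nm_Wc
  have l : Wc p S E ≤ E ⊓ St E (Wc p S E) :=
    h.Wz.trans (inf_le_inf_left _ (ce_le_St le_rfl h.WE))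
  have cY : Nat.card ↥(E ⊓ St E (Wc p S E)) ≤ p * Nat.card (Wc p S E) := by
    obtain ⟨k, hk⟩ := (h.pE.to_le (inf_le_left (b := St E (Wc p S E)))).exists_card_eq
    rw [hk, h.cW, ← pow_succ', Nat.pow_le_pow_iff_right hp.out.one_lt]
    by_contra c
    have c1 : Nat.card E ≤ p * Nat.card ↥(E ⊓ St E (Wc p S E)) := by
      rw [hk, h.cE, h.cF]
      exact Nat.mul_le_mul_left _ (Nat.pow_le_pow_right hp.out.pos (by omega))
    obtain ⟨y, hy, hy'⟩ := SetLike.not_le_iff_exists.1 hn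
    exact hy' (mem_St_gen h.pE inf_le_left c1 n ⟨n hy, fun x hx => comm_symm (hx.2.2 y hy)⟩ hy
      (fun e => hy' e.2) (by simp [one_mem]))
  have TW : Q ⊓ St S Z ≤ Wc p S E := fun v hv => by
    by_contra c
    have hY : v ∈ E ⊓ St E (Wc p S E) := ⟨(h.TF hv).1, h.StW hv.2⟩
    exact c (h.zE ⟨hY.1, h.kill' (nm_inf h.gE (nm_St h.gE (nm_Wc h.gE))) (le_gen
      (h.pE.to_le inf_le_left) l cY ((h.Wz.trans inf_le_right).trans (ce_le_St le_rfl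
        (h.mv.ZE h.xs))) hY c (St_anti h.mv.le hv.2)) hY⟩)
  have eF : E ⊓ Q ≤ Om h.xs := fun y hy => by
    obtain ⟨e, he, he'⟩ := h.xs.exists_not_mem
    obtain ⟨q, hq, c⟩ := h.xs.exists_comm he he' (y := y) ⟨hy.2, ce_symm ((TW.trans h.Wz).trans
      inf_le_right) hy.1⟩
    have c1 : ⁅q, e⁆ ∈ Om h.xs := ⟨(h.xs.comm_mem_ce hq he).1, h.xs.comm_pow hq he⟩
    exact inv_mem_iff.1 ((mul_mem_cancel_left c1).1 ⟨h.xs.ZQ c, h.xs.powZ c⟩)
  obtain ⟨a, ha, ha'⟩ := SetLike.not_le_iff_exists.1 h.cjF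
  refine ⟨a, h.c6, fun q hq => (le_gen h.pQ inf_le_right h.cQ.le eF hw.1 hw' hw hq).2,
    h.mv.le (h.cjE ha), fun c => ha' ⟨h.cjE ha, c⟩, ?_, (card_le_of_le TW).trans h.cW.le,
    fun x hx => mem_centralizer_singleton_iff.2 ((h.Wz (TW hx)).2 a (h.cjE ha)).symm⟩
  have := (eF (mem_cj.1 ha)).2
  rw [← inv_inv g, inv_inv g⁻¹, conj_pow] at this
  exact conj_eq_one_iff.1 this

theorem cl2 (hn : E ≤ St E (Wc p S E)) (ha : a ∈ E) (hb : b ∈ E) (i j : ℤ) :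
    ⁅a ^ i, b ^ j⁆ = ⁅a, b⁆ ^ (i * j) :=
  have c := (h.Wz ((hn ha).2 b hb)).2
  mul_inv_eq_one.1 (mem_bot.1 (comm_zpow nm_bot nm_bot (comm_symm (comm_of_ce c ha))
    (comm_symm (comm_of_ce c hb)) i j))

theorem powW (hn : E ≤ St E (Wc p S E)) (hx : x ∈ E) : x ^ p ∈ Wc p S E :=
  h.zE ⟨pow_mem hx p, mem_ce_of fun y hy => by
    have := h.cl2 hn hx hy p 1
    rwa [zpow_one, mul_one, zpow_natCast, zpow_natCast, h.par.Wc_pow ((hn hx).2 y hy)] at this⟩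

theorem caseO (hn : E ≤ St E (Wc p S E)) : ∃ U, HypO p S Q Z U := by
  obtain ⟨t, t0, t1, t2, t5, t3, t4⟩ := h.exists_t
  obtain ⟨w, hw, hw', tw⟩ := h.exists_w t0 t2 t3 t4
  have wS := h.xs.le hw.1
  have wE : w ∉ E := fun c => hw' ⟨c, hw.1⟩
  have tE := t4.1
  have nE := h.par.norm
  have n : S ≤ nm (Wc p S E) := nE.trans nm_Wc
  have l : E ⊓ Q ≤ E ⊓ St {w} (Wc p S E) := fun x hx =>
    ⟨hx.1, mem_St_one.2 ⟨n (h.mv.le hx.1), h.ZW (h.xs.comm x hx.2 w hw.1)⟩⟩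
  have ax : E ⊓ St {w} (Wc p S E) = E ⊓ Q := eq_of_card' h.pE l inf_le_left h.cE.le fun c =>
    h.ntr (h.par.tr_of_mem le_rfl h.WE le_rfl nm_Wc wS wE
      ⟨n wS, fun x hx => comm_symm (mem_St_one.1 (c hx).2).2⟩)
  obtain ⟨D, d1, d2, d3, d4, d5, d6⟩ := h.par.transv le_rfl h.WE le_rfl nm_Wc hn
    (fun _ => h.powW hn) h.ntr wS wE (by rw [ax]; exact h.cE.le)
  have cD : Nat.card D = p ^ 3 := by
    rw [h.cE, h.cF] at d4
    exact Nat.eq_of_mul_eq_mul_left (pow_pos hp.out.pos 2) (d4.symm.trans (by ring))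
  have cD' : Nat.card D = p * Nat.card (Wc p S E) := by rw [cD, h.cW, pow_succ']
  have pD := h.pE.to_le d2
  have DF : D ≤ E ⊓ Q := fun x hx =>
    ax.le ⟨d2 hx, mem_St_one.2 ⟨n (h.mv.le (d2 hx)), comm_symm ((d5 wS).2 x hx)⟩⟩
  have tD := (h.par.tr_of_card d2 d1 d3 nm_Wc cD'.le).mem t1 t2
  have Wc' : Wc p S E ≤ ce E := h.Wz.trans inf_le_right
  have abD : D ≤ ce D := ab_of_idx pD d1 cD'.le (Wc'.trans (centralizer_le d2))
  have nz : ¬ D ≤ ce E := fun c => by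
    have := card_le_of_le ((le_inf d2 c).trans h.zE)
    rw [cD, h.cW, Nat.pow_le_pow_iff_right hp.out.one_lt] at this
    omega
  have ceD : E ⊓ ce D = D := (h.par.irr le_rfl inf_le_left (le_inf d2 abD) le_rfl d3
    (fun _ c => nm_inf c (nm_ce (d3 c))) d6 d4.le).resolve_right fun c =>
      nz (ce_symm (c.ge.trans inf_le_right))
  obtain ⟨d, hd, hd', td⟩ : ∃ d ∈ D, d ∉ Wc p S E ∧ Commute t d := by
    obtain ⟨x, hx, hx'⟩ := exists_not_mem cD'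
    obtain ⟨y, hy, d, c, rfl⟩ := cop_dec (x := x) t2 (pD.to_le d1) tD.1 (tD.2 x hx)
    exact ⟨d, (mul_mem_cancel_left (d1 hy)).1 hx, fun e => hx' (mul_mem hy e), c⟩
  have inv : ∀ x ∈ E, t * x * t⁻¹ * x ∈ D := fun x hx => by
    have x' := conj_mem tE hx
    have c := (hn hx).2 d (d2 hd)
    refine ceD.le ⟨mul_mem x' hx, mem_ce_gen pD d1 cD'.le (ce_symm Wc' (mul_mem x' hx)) hd hd' ?_⟩
    have := t5 _ c
    rw [conj_comm, td.eq, mul_inv_cancel_right] at this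
    rw [comm_mul_left, Wc' c _ x', mul_inv_cancel_right, mul_eq_one_comm.1 this]
  set U := Uo hn tE
  have UE : U ≤ E := fun _ c => c.1
  have WU : Wc p S E ≤ U := fun x hx => ⟨h.WE hx, (t5 x hx).symm ▸ one_mem _⟩
  have UD : U ⊓ D ≤ Wc p S E := fun x hx => by
    by_contra c
    have c1 := hx.1.2
    rw [conj_eq_comm, mul_assoc, mul_mem_cancel_left (tD.2 x hx.2), ← zpow_two] at c1
    have := (Nat.prime_dvd_prime_iff_eq hp.out Nat.prime_two).1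
      (Int.natCast_dvd_natCast.1 (dvd_of_zpow_mem (h.powW hn hx.1.1) c c1))
    exact absurd (this ▸ h.xs.odd) (by decide)
  have sup : U ⊔ D = E := le_antisymm (sup_le UE d2) fun x hx => by
    obtain ⟨k, hk⟩ := h.xs.odd
    have c := pow_mem (inv x hx) k
    have c1 := h.powW hn (d2 (inv x hx))
    rw [show ∀ y : G, y ^ p = y * (y ^ k * y ^ k) from fun y => by
      rw [hk, pow_succ', two_mul, pow_add]] at c1
    generalize (t * x * t⁻¹ * x) ^ k = y at c c1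
    have e : t * (x * y) * t⁻¹ * (x * y) = t * x * t⁻¹ * (⁅t, y⁆ * ⁅y, x⁆) * (t * x * t⁻¹)⁻¹ *
        (t * x * t⁻¹ * x * (y * y)) := by simp only [commutatorElement_def]; group
    exact (mul_mem_cancel_right (mem_sup_right c)).1 (mem_sup_left ⟨mul_mem hx (d2 c), e ▸ mul_mem
      (conj_mem (hn (conj_mem tE hx)).1 (mul_mem (tD.2 y c) ((hn (d2 c)).2 x hx))) c1⟩)
  have cU : Nat.card U = p ^ 4 := by
    have := card_sup_mul (UE.trans (le_normalizer.trans d3))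
    rw [sup, UD.antisymm (le_inf WU d1), h.cE, h.cF, h.cW, cD] at this
    exact Nat.eq_of_mul_eq_mul_right (pow_pos hp.out.pos 3) (this.symm.trans (by ring))
  have abU : U ≤ ce U := fun a ha => mem_ce_of fun b hb => by
    refine t3 _ ((hn ha.1).2 b hb.1) (mul_inv_eq_iff_eq_mul.1 ?_)
    have := h.cl2 hn ha.1 hb.1 (-1) (-1)
    rw [conj_comm, ← mul_inv_cancel_right (t * a * t⁻¹) a, ← mul_inv_cancel_right (t * b * t⁻¹) b,
      comm_cen (inv_mem ha.1) (inv_mem hb.1) (h.Wz ha.2) (h.Wz hb.2)]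
    simpa using this
  have nU : S ≤ nm U := h.par.le_of wS wE (hn.trans (St_le_nm WU UE))
    (mem_nm_of_conj fun x hx => ⟨conj_mem (nE wS) hx.1, by
      have : t * (w * x * w⁻¹) * t⁻¹ * (w * x * w⁻¹) = w * (t * x * t⁻¹ * x) * w⁻¹ := by
        calc _ = t * w * x * (t * w)⁻¹ * (w * x * w⁻¹) := by group
          _ = _ := by rw [tw.eq]; group
      exact this ▸ conj_mem (n wS) hx.2⟩)
  obtain ⟨y, hy, hy'⟩ := SetLike.not_le_iff_exists.1 fun c : U ≤ Q =>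
    h.mv.nle (sup.ge.trans (sup_le c (DF.trans inf_le_right)))
  have xU := comm_mem_of_nm (nU wS) hy
  have xQ := (h.xs.StQ wS).2 y (h.mv.le hy.1)
  have eF : E ⊓ Q ≤ Om h.xs := le_gen h.pF DF (by rw [h.cF, cD, pow_succ'])
    (le_gen pD d1 cD'.le (fun x hx => ⟨h.WQ hx, h.par.Wc_pow hx⟩) hd hd'
      ⟨(DF hd).2, t3 _ (h.powW hn (d2 hd)) (td.pow_right p)⟩) ⟨xU.1, xQ⟩
    (fun c => hy' (ax.le ⟨hy.1, mem_St_one.2 ⟨n (h.mv.le hy.1), comm_symm (UD ⟨xU, c⟩)⟩⟩).2)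
    ⟨xQ, h.xs.comm_pow hw.1 (h.mv.le hy.1)⟩
  have eE : E ⊓ Q ⊔ cj g (E ⊓ Q) = E := eq_of_card h.pE le_sup_left (sup_le inf_le_left h.cjE)
    h.cE.le fun c => h.cjF (le_sup_right.trans c)
  refine ⟨U, h.c6, fun q hq => (le_gen h.pQ inf_le_right h.cQ.le eF hw.1 hw' hw hq).2,
    UE.trans h.mv.le, nU, abU, fun u hu => mem_bot.1 (pow_mem_sup h.xs.odd (fun _ _ => nm_bot)
      (fun a ha b hb c hc => comm_symm (comm_of_ce (Wc' ((hn (eE.le hb)).2 c (eE.le hc)))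
        (eE.le ha))) (fun x hx => (eF hx).2) (fun x hx => ?_) u (eE.ge hu.1)), cU,
    fun c => hy' (c hy), fun q hq => ?_⟩
  · have := (eF (mem_cj.1 hx)).2
    rw [← inv_inv g, inv_inv g⁻¹, conj_pow] at this
    exact conj_eq_one_iff.1 this
  have nZ : E ≤ nm Z := h.mv.le.trans h.xs.nZ
  have st : ∀ v ∈ St U Z, v ∈ St D Z → v ∈ St E Z := fun v c1 c2 =>
    sup ▸ mem_St_sup (UE.trans nZ) (d2.trans nZ) c1 c2
  have sD : Q ≤ St D Z := h.xs.StZ.trans (St_anti (DF.trans inf_le_right))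
  have qE := h.StE ⟨h.xs.le hq.1, St_mono le_rfl h.ZW h.WE (st q hq.2 (sD hq.1))⟩
  obtain ⟨u, hu, v, hv, rfl⟩ := (mem_sup_of_nm (UE.trans (le_normalizer.trans d3))).1 (sup.ge qE)
  refine mul_mem hu (WU (by_contra fun c => nz (h.kill' (d3 h.gE) (le_gen pD d1 cD'.le
    (Wc'.trans (ce_le_St le_rfl (h.mv.ZE h.xs))) hv c (st v ?_ (sD (DF hv).2))))))
  exact (mul_mem_cancel_left (ce_le_St le_rfl (h.ZW.trans WU) (abU hu))).1 hq.2

end Cc

end CC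

theorem caseC (h : Xs p S Q Z) (m : Mv p S Q Z E) (hg : g ∈ nm E) (hg' : g ∉ nm Z)
    (hQ : cj g Z ≤ Q) : (∃ U, HypO p S Q Z U) ∨ ∃ a, HypG p S Q Z a :=
  have H : CC.Cc p S Q Z E g := ⟨h, m, hg, hg', hQ⟩
  (em _).imp H.caseO H.caseG

end Cfsg.Agent.EX
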