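import Cfsg.Agent.EX.Basic

/-! Project EX: pearls. -/

set_option autoImplicit false

namespace Cfsg.Agent.EX

open Subgroup Cfsg.Agent.SR3 Cfsg.Agent.H91.Q5
open scoped commutatorElement

universe u

variable {G : Type u} [Group G] [Finite G] {p : ℕ} [hp : Fact p.Prime] {S Q Z E : Subgroup G}

namespace CP

variable {e g y t : G} {j : ℕ} {l m : ℤ}

theorem exists_prim (p : ℕ) [hp : Fact p.Prime] : ∃ l m : ℤ, (p : ℤ) ∣ l * m - 1 ∧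
    ∀ n : ℕ, (p : ℤ) ∣ l ^ n - 1 → p - 1 ∣ n := by
  obtain ⟨g, hg⟩ := IsCyclic.exists_ofOrder_eq_natCard (α := (ZMod p)ˣ)
  refine ⟨(g : ZMod p).val, ((g⁻¹ : (ZMod p)ˣ) : ZMod p).val, ?_, fun n hn => ?_⟩
  · rw [← ZMod.intCast_zmod_eq_zero_iff_dvd]
    rw [Int.cast_sub, Int.cast_mul, Int.cast_natCast, Int.cast_natCast, ZMod.natCast_zmod_val,
      ZMod.natCast_zmod_val, Units.mul_inv, Int.cast_one, sub_self]
  · rw [← ZMod.intCast_zmod_eq_zero_iff_dvd] at hn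
    rw [← ZMod.card_units p, ← Nat.card_eq_fintype_card, ← hg, orderOf_dvd_iff_pow_eq_one]
    exact Units.ext (by simpa [sub_eq_zero] using hn)

theorem Up_le_Up (h : Xs p S Q Z) {a b : ℕ} (hab : a ≤ b) : Up S Q Z a ≤ Up S Q Z b :=
  monotone_nat_of_le_succ h.Up_mono hab

theorem nUp (h : Xs p S Q Z) (n : ℕ) : S ≤ nm (Up S Q Z n) := fun _ hg =>
  h.nm_Up (le_normalizer hg) (h.nQ hg) n

theorem good (h : Xs p S Q Z) (m : Mv p S Q Z E) (hc : Nat.card E = p ^ 2) (hg : cj g E ≤ S)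
    (hy : y ∈ cj g E) (hy' : y ∉ Z) : S ⊓ St {y} ⊥ ≤ cj g E ∧ y ∉ Q := by
  have l : Z ≤ cj g E := (le_inf h.ZS (h.Zce.trans (centralizer_le hg))).trans (m.cen g hg)
  have k : S ⊓ St {y} ⊥ ≤ cj g E := fun x hx => m.cen g hg ⟨hx.1, mem_ce_gen (h.pg.to_le hg) l
    (by rw [card_cj, hc, h.cZ, sq]) (h.ceZ hx.1) hy hy' (mem_St_one.1 hx.2).2⟩
  refine ⟨k, fun e => ?_⟩
  have := h.big.trans ((h.card_ce le_rfl e).trans (Nat.mul_le_mul_left _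
    (card_le_of_le ((inf_le_inf h.le (St_bot _).ge).trans k))))
  rw [card_cj, hc, ← pow_succ', Nat.pow_le_pow_iff_right hp.out.one_lt] at this
  omega

theorem bound (h : Xs p S Q Z) (m : Mv p S Q Z E) (hc : Nat.card E = p ^ 2) {X : Subgroup G}
    (hX : E ≤ X) (hg : cj g X ≤ S) : Nat.card ↥(S ⊓ nm (cj g X)) ≤ p * Nat.card X := by
  have l := cj_mono g hX
  obtain ⟨y, hy, hy'⟩ := exists_not_mem (A := Z) (B := cj g E) (by rw [card_cj, hc, h.cZ, sq])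
  obtain ⟨k1, k2⟩ := good h m hc (l.trans hg) hy hy'
  have c1 := idx (X := S ⊓ nm (cj g X)) (Z := ⊥) (Y := cj g X ⊓ Q) (fun _ _ => nm_bot)
    (fun x hx => ⟨comm_mem_of_nm hx.2 (l hy), (h.StQ hx.1).2 y (hg (l hy))⟩) bot_le
  have c2 := card_eq_inf h.pg h.le h.card.le hg fun e => k2 (e (l hy))
  have c3 := card_le_of_le ((inf_le_inf_right (St {y} ⊥) (inf_le_left (b := nm (cj g X)))).trans k1)
  rw [card_cj] at c2 c3
  rw [card_bot, mul_one] at c1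
  rw [c2, ← mul_assoc, ← sq, ← hc]
  exact c1.trans (Nat.mul_le_mul_right _ c3)

/-- The data of a pearl. -/
structure Pe (p : ℕ) (S Q Z E : Subgroup G) (e : G) (j : ℕ) : Prop where
  xs : Xs p S Q Z
  mv : Mv p S Q Z E
  cE : Nat.card E = p ^ 2
  eE : e ∈ E
  eQ : e ∉ Q
  exp : ∀ x ∈ E, x ^ p = 1
  cQ : Nat.card Q = p ^ (j + 1 + 1)

namespace Pe

variable (h : Pe p S Q Z E e j)
include h

omit [Finite G] hp in
theorem eS : e ∈ S := h.mv.le h.eE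

omit [Finite G] in
theorem j3 : 3 ≤ j := by
  have := h.xs.big
  rw [h.cQ, Nat.pow_le_pow_iff_right hp.out.one_lt] at this
  omega

theorem cent {y : G} (hy : y ∈ E) (hy' : y ∉ Z) : S ⊓ St {y} ⊥ ≤ E := by
  simpa only [cj_one] using (good h.xs h.mv h.cE (g := 1) (by rw [cj_one]; exact h.mv.le)
    (by rwa [cj_one]) hy').1

theorem eZ : e ∉ Z := fun c => h.eQ (h.xs.ZQ c)

theorem EQ : E ⊓ Q = Z := eq_of_card' (h.xs.pg.to_le h.mv.le) (le_inf (Mv.ZE h.xs h.mv) h.xs.ZQ)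
  inf_le_left (by rw [h.cE, h.xs.cZ, sq]) fun c => h.eQ (c h.eE).2

theorem cT : Nat.card ↥(Q ⊓ St S Z) ≤ p ^ 2 := by
  have c1 := idx (X := Q ⊓ St S Z) (Z := ⊥) (fun _ _ => nm_bot) (fun x hx => hx.2.2 e h.eS) bot_le
  have c2 : Q ⊓ St S Z ⊓ St {e} ⊥ ≤ Z := fun x hx =>
    h.EQ.le ⟨h.cent h.eE h.eZ ⟨h.xs.le hx.1.1, hx.2⟩, hx.1.1⟩
  rw [card_bot, mul_one] at c1
  simpa only [h.xs.cZ, sq] using c1.trans (Nat.mul_le_mul_right _ (card_le_of_le c2))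

theorem cU {n : ℕ} (hn : n ≤ j + 1) : Nat.card (Up S Q Z n) = p ^ (n + 1) :=
  h.xs.card_Up h.cT h.cQ hn

theorem cU' {n : ℕ} (hn : n ≤ j) : Nat.card (Up S Q Z (n + 1)) = p * Nat.card (Up S Q Z n) := by
  rw [h.cU (by omega), h.cU (by omega), pow_succ']

theorem top : Up S Q Z (j + 1) = Q :=
  H91.eq_of_le_of_card_le (h.xs.Up_le _) (by rw [h.cU le_rfl, h.cQ])

theorem nmem (n : ℕ) : e ∉ Up S Q Z n := fun c => h.eQ (h.xs.Up_le n c)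

theorem cP (n : ℕ) : Nat.card ↥(Up S Q Z n ⊔ zpowers e) = p * Nat.card (Up S Q Z n) :=
  card_sup_zpowers (nUp h.xs n h.eS) (h.exp e h.eE ▸ one_mem _) (h.nmem n)

theorem PS (n : ℕ) : Up S Q Z n ⊔ zpowers e ≤ S :=
  sup_le ((h.xs.Up_le n).trans h.xs.le) (zpowers_le.2 h.eS)

theorem P0 : Up S Q Z 0 ⊔ zpowers e = E := sup_zpowers_eq (h.xs.pg.to_le h.mv.le)
  (Mv.ZE h.xs h.mv) (by rw [h.cE, h.cU (by omega), sq, zero_add, pow_one]) h.eE h.eZ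

theorem Pmono {a b : ℕ} (hab : a ≤ b) : Up S Q Z a ⊔ zpowers e ≤ Up S Q Z b ⊔ zpowers e :=
  sup_le_sup_right (Up_le_Up h.xs hab) _

theorem Pinf {n : ℕ} {X : Subgroup G} (h1 : Up S Q Z n ≤ X) (h2 : e ∉ X) :
    (Up S Q Z n ⊔ zpowers e) ⊓ X = Up S Q Z n :=
  eq_of_card' (h.xs.pg.to_le (h.PS n)) (le_inf le_sup_left h1) inf_le_left (h.cP n).le
    fun c => h2 (c (mem_sup_right (mem_zpowers e))).2

theorem mem_Up {n : ℕ} {q : G} (hq : q ∈ Q) (h1 : ⁅q, e⁆ ∈ Up S Q Z n) : q ∈ Up S Q Z (n + 1) :=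
  (h.xs.St_one (h.xs.le_Up n) (nUp h.xs n) h.eS h.eQ).le
    ⟨hq, mem_St_one.2 ⟨nUp h.xs n (h.xs.le hq), h1⟩⟩

theorem cP' {n : ℕ} (hn : n ≤ j) : Nat.card ↥(Up S Q Z (n + 1) ⊔ zpowers e) =
    p * Nat.card ↥(Up S Q Z n ⊔ zpowers e) := by rw [h.cP, h.cP, h.cU' hn]

theorem nmP {n : ℕ} (hn : n ≤ j) :
    S ⊓ nm (Up S Q Z n ⊔ zpowers e) = Up S Q Z (n + 1) ⊔ zpowers e := by
  refine le_antisymm (fun x hx => ?_) (le_inf (h.PS _) (le_nm_of_card (h.xs.pg.to_le (h.PS _))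
    (h.Pmono n.le_succ) (h.cP' hn).le))
  obtain ⟨q, hq, i, rfl⟩ := (mem_sup_zpowers (h.xs.nQ h.eS)).1 ((h.xs.gen h.eS h.eQ).ge hx.1)
  have e1 : e ∈ Up S Q Z n ⊔ zpowers e := mem_sup_right (mem_zpowers e)
  exact mul_mem_sup (h.mem_Up hq ((h.Pinf (h.xs.Up_le n) h.eQ).le ⟨comm_mem_of_nm
    ((mul_mem_cancel_right (le_normalizer (zpow_mem e1 i))).1 hx.2) e1,
    (h.xs.StQ (h.xs.le hq)).2 e h.eS⟩)) (zpow_mem (mem_zpowers e) i)

theorem loc {n : ℕ} (hn : n ≤ j) :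
    Loc p (Up S Q Z (n + 1) ⊔ zpowers e) (Up S Q Z n ⊔ zpowers e) :=
  h.nmP hn ▸ h.mv.sat _ (h.PS n) fun g hg => by
    rw [h.nmP hn, h.cP' hn]
    exact bound h.xs h.mv h.cE (h.P0.ge.trans (h.Pmono n.zero_le)) hg

theorem ceT : Q ⊓ ce (Up S Q Z 1) = Up S Q Z j := by
  refine H91.eq_of_le_of_card_le (fun y hy => ?_) ?_
  · obtain ⟨q, hq, c⟩ := h.xs.exists_comm h.eS h.eQ hy
    exact inv_mem_iff.1 ((mul_mem_cancel_left ((h.top.ge hq).2.2 e h.eS)).1 (h.xs.le_Up j c))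
  · have := h.xs.dual (h.xs.le_Up 1) (h.xs.Up_le 1)
    rw [h.cU (by omega), h.cQ] at this
    rw [h.cU (by omega)]
    exact (Nat.eq_of_mul_eq_mul_left (pow_pos hp.out.pos (1 + 1)) (by rw [this]; ring)).le

theorem eT : e ∉ ce (Up S Q Z 1) := fun c => AL.not_le (h.cU' (Nat.zero_le j)) fun _ hx =>
  h.EQ.le ⟨h.cent h.eE h.eZ ⟨h.xs.le hx.1, mem_St_one.2
    ⟨nm_bot, comm_symm (comm_of_ce c hx)⟩⟩, hx.1⟩

theorem sT : S ≤ St (Up S Q Z 1) Z := le_St_symm inf_le_right h.xs.nZ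

theorem base (hlm : (p : ℤ) ∣ l * m - 1) : ∃ t ∈ nm (Up S Q Z 1 ⊔ zpowers e),
    t ∈ nm (Up S Q Z 1) ∧ t ∈ nm Z ∧ Wt t (Up S Q Z 1 ⊔ zpowers e) (Up S Q Z 1) m ∧
      Wt t (Up S Q Z 1) Z (l ^ 2) ∧ Wt t Z ⊥ l := by
  have j3 := h.j3
  have pE := h.xs.pg.to_le h.mv.le
  have e1 := h.nmP (Nat.zero_le j)
  have c1 := h.cP' (Nat.zero_le j)
  have l1 := h.Pmono (Nat.zero_le 1)
  rw [h.P0, zero_add] at *
  have ZN := (Mv.ZE h.xs h.mv).trans l1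
  have Zc : Z ≤ ce (Up S Q Z 1 ⊔ zpowers e) := h.xs.Zce.trans (centralizer_le (h.PS 1))
  have k : ∀ x ∈ E, x ∈ ce (Up S Q Z 1 ⊔ zpowers e) → x ∈ Z := fun x hx c => by
    by_contra c'
    exact AL.not_le c1 fun y hy => h.cent hx c' ⟨h.PS 1 hy, mem_St_one.2
      ⟨nm_bot, comm_symm (comm_of_ce c hy)⟩⟩
  have hz : (Up S Q Z 1 ⊔ zpowers e) ⊓ ce (Up S Q Z 1 ⊔ zpowers e) = Z := le_antisymm
    (fun x hx => k x (h.cent h.eE h.eZ ⟨h.PS 1 hx.1, mem_St_one.2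
      ⟨nm_bot, comm_of_ce hx.2 (l1 h.eE)⟩⟩) hx.2) (le_inf ZN Zc)
  have hP := Mv.par h.xs h.mv (by rw [e1, c1]) (by rw [e1, hz])
  rw [e1] at hP
  have z1 : nm (Up S Q Z 1 ⊔ zpowers e) ≤ nm Z := fun g hg => hz ▸ nm_inf hg (nm_ce hg)
  obtain ⟨s, hs, hs'⟩ := exists_not_mem (h.cP' (n := 1) (by omega))
  obtain ⟨M, hU⟩ := exists_up hP (h.loc (n := 1) (by omega)) (fun c => hs' (c hs))
    (fun b hb => (inf_le_inf_right _ (h.PS _)).trans (hfn_of hP (h.PS 1)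
      (fun g hg => c1 ▸ bound h.xs h.mv h.cE le_rfl hg) b hb)) bot_le (fun _ _ => nm_bot)
    (by rw [h.cE, card_bot, mul_one]) h.exp hP.nc (card_bot.le.trans hp.out.pos)
    (le_antisymm (le_inf (Mv.ZE h.xs h.mv) (Zc.trans (St_ce _).ge))
      fun x hx => k x hx.1 ((St_ce _).le hx.2)) z1 (fun _ _ => nm_bot) bot_le
    (by rw [h.xs.cZ, card_bot, mul_one]) (card_bot.le.trans hp.out.pos)
  obtain rfl : Up S Q Z 1 = M := H91.eq_of_le_of_card_le (fun x hx => (hU.fix s hs hs').le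
    ⟨mem_sup_left hx, St_anti (by simpa using h.PS _ hs) hx.2⟩)
    (by rw [hU.cM, h.cU (by omega), h.xs.cZ, pow_succ, pow_one])
  obtain ⟨t, -, t1, -, w1, w2, w3, -⟩ := hU.tor l m hlm l 1 fun t _ _ w =>
    ⟨w, fun x hx => by simp [mem_bot.1 hx]⟩
  exact ⟨t, t1, hU.nM t1, z1 t1, w1, w2, w3⟩

theorem tower (hlm : (p : ℤ) ∣ l * m - 1) (n : ℕ) (hn : n ≤ j) :
    ∃ t ∈ nm (Up S Q Z (n + 1) ⊔ zpowers e), t ∈ nm (Up S Q Z (n + 1)) ∧ t ∈ nm (Up S Q Z 1) ∧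
      t ∈ nm Z ∧ Wt t (Up S Q Z (n + 1) ⊔ zpowers e) (Up S Q Z (n + 1)) m ∧
      Wt t (Up S Q Z 1) Z (l ^ 2) ∧ Wt t Z ⊥ l := by
  induction n with
  | zero => obtain ⟨t, a, b, c⟩ := h.base hlm; exact ⟨t, a, b, b, c⟩
  | succ n ih =>
    obtain ⟨t, t1, t2, t3, t4, w1, w2, w3⟩ := ih (by omega)
    have hL := h.loc hn
    have T1 : Up S Q Z 1 ≤ Up S Q Z (n + 1) ⊔ zpowers e :=
      (Up_le_Up h.xs (by omega)).trans le_sup_left
    have Z1 := (h.xs.le_Up 1).trans T1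
    obtain ⟨c, hc, hc'⟩ := hL.frat (nm (Up S Q Z (n + 1) ⊔ zpowers e) ⊓
      St (Up S Q Z (n + 1) ⊔ zpowers e : Subgroup G) (Up S Q Z (n + 1)) ⊓ St (Up S Q Z 1) Z ⊓ St Z ⊥)
      (fun g hg => ⟨⟨⟨hL.norm hg, le_St_of_card hL.pg le_sup_left hL.le hL.norm
        ((h.PS _).trans (nUp h.xs _)) (h.cP _).le hg⟩, h.sT (h.PS _ hg)⟩,
        (St_ce Z).ge (h.xs.ceZ (h.PS _ hg))⟩)
      (fun g hg => ⟨⟨⟨ce_le_nm le_rfl hg, ce_le_St le_rfl le_sup_left hg⟩, ce_le_St T1 Z1 hg⟩,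
        ce_le_St Z1 bot_le hg⟩) (fun g hg => hg.1.1.1) t t1
      (nm_inf (nm_inf (nm_inf (nm_nm t1) (nm_St t1 t2)) (nm_St t3 t4)) (nm_St t4 nm_bot))
    have u3 := mul_mem t3 (St_le_nm (h.xs.le_Up 1) le_rfl hc.1.2)
    have u2 : t * c ∈ nm (Up S Q Z (n + 1 + 1)) := by
      rcases hn.eq_or_lt with rfl | hn'
      · rw [h.top, h.xs.gen h.eS h.eQ] at hc'
        rw [h.top]
        exact h.xs.nmQ (h.cT.trans (Nat.pow_le_pow_right hp.out.pos (by omega))) hc'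
      · rw [← h.Pinf ((Up_le_Up h.xs hn').trans (h.ceT.ge.trans inf_le_right)) h.eT]
        exact nm_inf hc' (nm_ce u3)
    exact ⟨t * c, hc', u2, u3, mul_mem t4 hc.1.2.1, wt_of_gen u2 (nUp h.xs _ h.eS) (h.xs.Up_mono _
      (Wt.mul_St w1 hc.1.1.2 t2 ((h.PS _).trans (nUp h.xs _)) e (mem_sup_right (mem_zpowers e)))),
      Wt.mul_St w2 hc.1.2 t4 (((h.xs.Up_le 1).trans h.xs.le).trans h.xs.nZ),
      Wt.mul_St w3 hc.2 nm_bot fun _ _ => nm_bot⟩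

theorem torus (hlm : (p : ℤ) ∣ l * m - 1) : (p : ℤ) ∣ l ^ (j + 3) - 1 ∧ ∃ t ∈ nm S, t ∈ nm Q ∧
    Wt t S Q m ∧ Wt t Q (Up S Q Z j) m ∧ Wt t (Up S Q Z 1) Z (l ^ 2) ∧ Wt t Z ⊥ l := by
  obtain ⟨t, t1, t2, -, -, w1, w2, w3⟩ := h.tower hlm j le_rfl
  rw [h.top] at t1 t2 w1
  rw [h.xs.gen h.eS h.eQ] at t1 w1
  have US := fun n => (h.xs.Up_le n).trans h.xs.le
  have pU := fun n => h.xs.pg.to_le (US n)
  have sU : ∀ n, S ≤ St (Up S Q Z (n + 1)) (Up S Q Z n) := fun n =>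
    le_St_symm inf_le_right (nUp h.xs n)
  have key : ∀ n ≤ j, Wt t (Up S Q Z (n + 1)) (Up S Q Z n) (l ^ (n + 2)) := fun n hn => by
    induction n with
    | zero => exact w2
    | succ n ih =>
      obtain ⟨i, hi⟩ := exists_wt (pU _) (h.xs.Up_mono _) (h.cU' hn).le (h.xs.nm_Up t1 t2 _)
        (h.xs.nm_Up t1 t2 _)
      obtain ⟨b, hb, hb'⟩ := exists_not_mem (h.cU' hn)
      have d := wt_dvd w1 hi (ih (by omega)) h.xs.le (h.xs.Up_mono _)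
        (le_St (h.xs.le.trans (nUp h.xs n)) fun a ha b hb => h.xs.le_Up n (h.xs.comm a ha b hb.1))
        inf_le_right (fun a ha => (sU _ ha).2) (sU n) ((US _).trans (sU n))
        (fun _ => pow_mem_of_card (pU _) (h.xs.Up_mono _) (h.cU' (by omega)).le) h.eS hb
        fun c => hb' (h.mem_Up hb.1 (comm_symm c))
      refine hi.congr (fun _ => pow_mem_of_card (pU _) (h.xs.Up_mono _) (h.cU' hn).le) ?_
      have := dvd_sub (d.mul_left l) (hlm.mul_left i)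
      rwa [show l * (m * i - l ^ (n + 2)) - i * (l * m - 1) = i - l ^ (n + 1 + 2) by ring] at this
  have w4 := key j le_rfl
  obtain ⟨a, ha, ha'⟩ := exists_not_mem (h.cU' le_rfl)
  rw [h.top] at w4 ha
  obtain ⟨b, hb, c⟩ : ∃ b ∈ Up S Q Z 1, ⁅a, b⁆ ≠ 1 := by
    by_contra c
    push Not at c
    exact ha' (h.ceT.le ⟨ha, mem_ce_of c⟩)
  have s1 : S ≤ St Z ⊥ := h.xs.ceZ.trans (St_ce Z).ge
  have d := wt_dvd w4 w2 w3 (h.xs.Up_le j) (h.xs.le_Up 1)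
    (h.ceT.ge.trans (inf_le_right.trans (St_ce _).ge))
    (le_St_symm (h.xs.le.trans s1) fun _ _ => nm_bot) (fun a ha b hb => h.xs.comm a ha b hb.1)
    (h.xs.le.trans s1) ((US 1).trans s1) (fun _ => h.xs.powZ) ha hb c
  have d' : (p : ℤ) ∣ l ^ (j + 3) - 1 := by
    have := dvd_sub (d.mul_left m) (hlm.mul_left (l ^ (j + 3) - 1))
    rwa [show m * (l ^ (j + 2) * l ^ 2 - l) - (l ^ (j + 3) - 1) * (l * m - 1) = l ^ (j + 3) - 1 by
      ring] at this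
  refine ⟨d', t, t1, t2, w1, w4.congr (fun _ => pow_mem_of_card (h.xs.pg.to_le h.xs.le)
    (h.xs.Up_le j) (by rw [← h.cU' le_rfl, h.top])) ?_, w2, w3⟩
  have := dvd_sub (d'.mul_left m) (hlm.mul_left (l ^ (j + 2)))
  rwa [show m * (l ^ (j + 3) - 1) - l ^ (j + 2) * (l * m - 1) = l ^ (j + 2) - m by ring] at this

theorem jp : j + 4 = p := by
  have j3 := h.j3
  have c : j + 1 ≤ p := by
    by_contra c
    have := h.cU (n := p) (by omega)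
    rw [h.xs.Up_p, h.cQ, Nat.pow_right_inj hp.out.one_lt] at this
    omega
  obtain ⟨l, m, h1, h2⟩ := exists_prim p
  obtain ⟨d, hd⟩ := h2 _ (h.torus h1).1
  obtain ⟨r, hr⟩ := h.xs.odd
  rcases d with _ | _ | d
  · omega
  · omega
  · have : (p - 1) * 2 ≤ (p - 1) * (d + 1 + 1) := Nat.mul_le_mul_left _ (by omega)
    omega

theorem cC : Nat.card S = p * Nat.card ↥(S ⊓ ce (Up S Q Z 1)) := le_antisymm
  (St_ce (Up S Q Z 1) ▸ idx2 (h.xs.pg.to_le ((h.xs.Up_le 1).trans h.xs.le)) bot_le (h.xs.le_Up 1)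
    (by rw [h.xs.cZ, card_bot, mul_one]) (h.cU' (Nat.zero_le j)).le (fun _ _ => nm_bot)
    (h.xs.ceZ.trans (St_ce Z).ge) h.sT)
  (mul_card_le h.xs.pg (lt_of_le_not_ge inf_le_left fun c => h.eT (c h.eS).2))

theorem expS : ∀ y ∈ S, y ^ p = 1 := by
  have j3 := h.j3
  obtain ⟨l, m, hlm, h2, h3, -⟩ := exists_lam (p := p) (by have := h.jp; omega)
  obtain ⟨-, t, t1, t2, w1, w2, w3, w4⟩ := h.torus hlm
  have kZ : ∀ u ∈ Z, t * u * t⁻¹ = u ^ m → u = 1 := fun u hu c => by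
    by_contra c'
    have := w4 u hu
    rw [c, ← zpow_neg, ← zpow_add] at this
    have d := dvd_sub hlm ((dvd_of_zpow_mem (Y := ⊥) (h.xs.powZ hu) c' this).mul_left l)
    exact h2 (by rwa [show l * m - 1 - l * (m + -l) = l ^ 2 - 1 by ring] at d)
  have cp : ∀ {c y : G}, c ∈ Z → y ∈ S → (c * y) ^ p = y ^ p := fun {c y} hc hy => by
    rw [Commute.mul_pow (h.xs.ceZ hy c hc), h.xs.powZ hc, one_mul]
  intro y hy
  by_cases hQ : y ∈ Q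
  · refine kZ _ (h.xs.pow hQ) ?_
    obtain ⟨q, hq, c⟩ := h.xs.exists_comm h.eS h.eQ (h.ceT.ge (w2 y hQ))
    have v := h.xs.Up_le j (w2 y hQ)
    have e1 := cp (inv_mem c) (h.xs.le (h.xs.comm_mem_ce hq h.eS).1)
    rw [h.xs.comm_pow hq h.eS, mul_inv_rev, inv_mul_cancel_right, inv_inv] at e1
    rw [← conj_pow, ← inv_mul_cancel_right (t * y * t⁻¹) (y ^ m),
      h.xs.mul_pow' v (zpow_mem hQ m), e1, one_mul, ← zpow_natCast, ← zpow_natCast, ← zpow_mul,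
      ← zpow_mul, mul_comm]
  obtain ⟨a, ha, ha'⟩ := exists_not_mem (h.cU' le_rfl)
  rw [h.top] at ha
  have tC := nm_inf t1 (nm_ce (h.xs.nm_Up t1 t2 1))
  have w5 := wt_of_gen tC (le_nm_of_card h.xs.pg inf_le_left h.cC.le (h.xs.le ha))
    ((h.ceT.ge.trans (inf_le_inf_right _ h.xs.le)) (w2 a ha))
  rw [sup_zpowers_eq h.xs.pg inf_le_left h.cC.le (h.xs.le ha)
    fun c => ha' (h.ceT.le ⟨ha, c.2⟩)] at w5
  have pQ := pow_mem_of_card h.xs.pg h.xs.le h.xs.card.le hy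
  obtain ⟨q, hq, c⟩ := h.xs.exists_comm (zpow_mem hy m) (fun c => hp.out.ne_one (Nat.dvd_one.1
    (Int.natCast_dvd_natCast.1 ((dvd_iff_dvd_of_dvd_sub hlm).1
      ((dvd_of_zpow_mem pQ hQ c).mul_left l))))) ⟨w1 y hy, (w5 y hy).2⟩
  have e1 : t * y ^ p * t⁻¹ = q * (y ^ p) ^ m * q⁻¹ := by
    have := cp (inv_mem c) (mul_mem (mul_mem (h.xs.le hq) (zpow_mem hy m)) (inv_mem (h.xs.le hq)))
    rw [conj_eq_comm q, mul_inv_rev, inv_inv, ← mul_assoc, inv_mul_cancel_right,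
      inv_mul_cancel_right, conj_pow, ← conj_eq_comm, conj_pow] at this
    rw [this, ← zpow_natCast, ← zpow_natCast, ← zpow_mul, ← zpow_mul, mul_comm m]
  have uT : y ^ p ∈ Up S Q Z 1 := (h.xs.St_one le_rfl h.xs.nZ hy hQ).le ⟨pQ, mem_St_one.2
    ⟨h.xs.nZ (pow_mem hy p), by
      rw [commutatorElement_eq_one_iff_commute.2 (Commute.pow_self y p)]; exact one_mem _⟩⟩
  have uZ : y ^ p ∈ Z := by
    by_contra c'
    have := w3 _ uT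
    rw [e1, conj_eq_comm q, mul_assoc, mul_mem_cancel_left (h.xs.comm q hq _ (zpow_mem pQ m)),
      ← zpow_neg, ← zpow_add] at this
    have d := dvd_sub hlm ((dvd_of_zpow_mem (h.xs.pow pQ) c' this).mul_left l)
    exact h3 (by rwa [show l * m - 1 - l * (m + -l ^ 2) = l ^ 3 - 1 by ring] at d)
  exact kZ _ uZ (by rw [e1, ← h.xs.ceZ (h.xs.le hq) _ (zpow_mem uZ m), mul_inv_cancel_right])

end Pe

end CP

open CP

theorem caseP (h : Xs p S Q Z) (m : Mv p S Q Z E) (hc : Nat.card E = p ^ 2)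
    (he : ∀ x ∈ E, x ^ p = 1) :
    (11 ≤ p ∧ Nat.card S = p ^ (p - 1) ∧ ∀ x ∈ S, x ^ p = 1) ∨ ∃ a, HypG p S Q Z a := by
  obtain ⟨e, h1, h2⟩ := SetLike.not_le_iff_exists.1 m.nle
  obtain ⟨k, hk⟩ := (h.pg.to_le h.le).exists_card_eq
  have := h.big
  rw [hk, Nat.pow_le_pow_iff_right hp.out.one_lt] at this
  obtain ⟨j, rfl⟩ : ∃ j, k = j + 1 + 1 := ⟨k - 2, by omega⟩
  have H : Pe p S Q Z E e j := ⟨h, m, hc, h1, h2, he, hk⟩
  have e1 := H.jp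
  have cS : Nat.card S = p ^ (p - 1) := by rw [h.card, hk, ← pow_succ']; congr 1; omega
  by_cases h11 : 11 ≤ p
  · exact .inl ⟨h11, cS, H.expS⟩
  obtain rfl : j = 3 := by
    have := hp.out
    have : j ≤ 6 := by omega
    interval_cases j <;> first | rfl | omega | (subst e1; norm_num at *)
  obtain ⟨a, ha, ha'⟩ := SetLike.not_le_iff_exists.1 fun c : S ⊓ ce (Up S Q Z 1) ≤ Q => by
    have := card_le_of_le ((le_inf c inf_le_right).trans H.ceT.le)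
    rw [H.cU (by omega), Nat.eq_of_mul_eq_mul_left hp.out.pos (H.cC.symm.trans h.card), hk,
      Nat.pow_le_pow_iff_right hp.out.one_lt] at this
    omega
  exact .inr ⟨a, cS.trans (by rw [← e1]), fun q hq => H.expS q (h.le hq), ha.1, ha', H.expS a ha.1,
    H.cT, fun x hx => mem_centralizer_singleton_iff.2 (ha.2 x hx)⟩

end Cfsg.Agent.EX
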