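import Cfsg.Agent.EX.Defs
import Cfsg.Agent.H21.ElemMod

/-! Project EX: groups of Siegel transformations with an ovoid as orbit. -/

set_option autoImplicit false

namespace Cfsg.Agent.EX

open Subgroup Cfsg.Agent.SR3
open scoped commutatorElement

universe u

namespace LN

section

variable {p : ℕ} [hp : Fact p.Prime] {W : Type*} [AddCommGroup W] [Module (ZMod p) W]
  {ω : ZMod p → W → ZMod p → Prop} {B B' : W →ₗ[ZMod p] W →ₗ[ZMod p] ZMod p} {β β' : W → ZMod p}
  {v w : W}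

/-- One of the two groups in coordinates. -/
structure Hf (ω : ZMod p → W → ZMod p → Prop) (B : W →ₗ[ZMod p] W →ₗ[ZMod p] ZMod p)
    (β : W → ZMod p) : Prop where
  two : (2 : ZMod p) ≠ 0
  big : ∀ v : W, ∃ d, ∀ a : ZMod p, d ≠ a • v
  sym : ∀ v w, B v w = B w v
  add : ∀ v w, β (v + w) = β v + β w + B v w
  nd : ∀ v, (∀ d, B v d = 0) → v = 0
  mv : ∀ v a d c, ω a (d + a • v) (c + B v d + a * β v) ↔ ω a d c
  sm : ∀ l a d c, l ≠ 0 → ω a d c → ω (l * a) (l • d) (l * c)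
  e : ω 1 0 0
  oe : ∀ a d, ω a d 0 → d = 0

theorem Hf.om (h : Hf ω B β) (v : W) : ω 1 v (β v) := by simpa using (h.mv v 1 0 0).2 h.e

theorem Hf.ne (h : Hf ω B β) (hv : v ≠ 0) : β v ≠ 0 := fun c => hv (h.oe 1 v (c ▸ h.om v))

theorem Hf.smul (h : Hf ω B β) (t : ZMod p) (v : W) :
    2 * β (t • v) = t ^ 2 * B v v + t * (2 * β v - B v v) := by
  obtain ⟨n, rfl⟩ := ZMod.natCast_zmod_surjective t
  induction n with
  | zero => simpa [h.two] using h.add 0 0
  | succ n ih =>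
    rw [Nat.cast_succ, add_smul, one_smul, h.add, map_smul, LinearMap.smul_apply, smul_eq_mul]
    linear_combination ih

theorem Hf.aniso (h : Hf ω B β) (h' : Hf (fun a d c => ω c d a) B' β') (hv : v ≠ 0) :
    B v v ≠ 0 := fun c => by
  have b := h.ne hv
  set u := (β v)⁻¹ • v
  have k1 : ∀ a, a ≠ 0 → ω a u 1 := fun a ha => by
    have e := h.smul (a⁻¹ * (β v)⁻¹) v
    rw [c, mul_zero, zero_add, sub_zero, mul_left_comm, mul_right_inj' h.two] at e
    have := h.sm a _ _ _ ha (h.om ((a⁻¹ * (β v)⁻¹) • v))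
    rwa [e, mul_one, smul_smul, mul_inv_cancel_left₀ ha, inv_mul_cancel_right₀ b,
      mul_inv_cancel₀ ha] at this
  have k2 : ∀ w, w ≠ u → B' w (u - w) + β' w = 0 := fun w hw => by_contra fun e =>
    hw (sub_eq_zero.1 (h'.oe 1 _ ((h'.mv w 1 (u - w) 0).1 (by simpa using k1 _ e)))).symm
  have k3 : ∀ x y, x ≠ u → y ≠ u → x + y ≠ u → B' x y = 0 := fun x y h1 h2 h3 => by
    have e1 := k2 x h1
    have e2 := k2 y h2
    have e3 := k2 _ h3
    simp only [h'.add, map_add, map_sub, LinearMap.add_apply, h'.sym y x] at e1 e2 e3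
    linear_combination e1 + e2 - e3
  obtain ⟨d, hd⟩ := h.big u
  have d1 : d ≠ u := by simpa using hd 1
  have d2 : B' d u = 0 := by
    simpa using k3 d (-u) d1 (fun e => smul_ne_zero h.two (smul_ne_zero (inv_ne_zero b) hv)
      (by rw [two_smul]; exact neg_eq_iff_add_eq_zero.1 e))
      fun e => hd 2 (by rw [two_smul]; exact add_neg_eq_iff_eq_add.1 e)
  have d3 : B' d d = 0 := k3 d d d1 d1 fun e =>
    hd 2⁻¹ (by rw [← e, ← two_smul (ZMod p), inv_smul_smul₀ h.two])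
  refine hd 0 ((h'.nd d fun x => ?_).trans (zero_smul _ _).symm)
  by_cases x1 : x = u
  · rwa [x1]
  by_cases x2 : d + x = u
  · rw [← x2, map_add, d3, zero_add] at d2; exact d2
  exact k3 d x d1 x1 x2

theorem Hf.two_mul (h : Hf ω B β) (h' : Hf (fun a d c => ω c d a) B' β') (v : W) :
    B v v = 2 * β v := by
  by_cases hv : v = 0
  · simpa [hv, h.two] using h.add 0 0
  by_contra c
  have b := h.aniso h' hv
  refine h.ne (smul_ne_zero (div_ne_zero (sub_ne_zero.2 c) b) hv) ((mul_eq_zero.1 ?_).resolve_left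
    h.two)
  rw [h.smul]
  field_simp
  ring

theorem Hf.sq (h : Hf ω B β) (h' : Hf (fun a d c => ω c d a) B' β') (t : ZMod p) (v : W) :
    β (t • v) = t ^ 2 * β v := mul_left_cancel₀ h.two (by rw [h.smul, h.two_mul h']; ring)

theorem univ (h2 : (2 : ZMod p) ≠ 0) {a b : ZMod p} (ha : a ≠ 0) (hb : b ≠ 0) (c : ZMod p) :
    ∃ s t : ZMod p, s ^ 2 * a + t ^ 2 * b = c := by
  obtain ⟨s, t, e⟩ := FiniteField.exists_root_sum_quadratic (R := ZMod p)
    (f := Polynomial.C a * Polynomial.X ^ 2) (g := Polynomial.C b * Polynomial.X ^ 2 -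
      Polynomial.C c) (Polynomial.degree_C_mul_X_pow 2 ha) (by compute_degree!)
    (by rw [ZMod.card]; exact hp.out.eq_two_or_odd.resolve_left fun e => h2 (by
      subst e; rfl))
  exact ⟨s, t, by simp at e; linear_combination e⟩

theorem Hf.basis (h : Hf ω B β) (h' : Hf (fun a d c => ω c d a) B' β') :
    ∃ v₁ v₂ : W, v₁ ≠ 0 ∧ v₂ ≠ 0 ∧ B v₁ v₂ = 0 ∧ (∀ c, ∃ u, β u = c) ∧
      ∀ d, ∃ s t : ZMod p, d = s • v₁ + t • v₂ := by
  obtain ⟨v, hv⟩ := h.big 0
  have v0 : v ≠ 0 := by simpa using hv 0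
  obtain ⟨d, hd⟩ := h.big v
  have b := h.aniso h' v0
  have w0 : d - (B v d / B v v) • v ≠ 0 := sub_ne_zero.2 (hd _)
  have o : B v (d - (B v d / B v v) • v) = 0 := by simp [b]
  generalize d - (B v d / B v v) • v = w at w0 o
  have k : ∀ s t : ZMod p, β (s • v + t • w) = s ^ 2 * β v + t ^ 2 * β w := fun s t => by
    simp [h.add, h.sq h', o]
  refine ⟨v, w, v0, w0, o, fun c => ?_, fun x => ?_⟩
  · obtain ⟨s, t, e⟩ := univ h.two (h.ne v0) (h.ne w0) c
    exact ⟨_, (k s t).trans e⟩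
  have b' := h.aniso h' w0
  have o1 : B v (x - (B v x / B v v) • v - (B w x / B w w) • w) = 0 := by simp [b, o]
  have o2 : B w (x - (B v x / B v v) • v - (B w x / B w w) • w) = 0 := by simp [b', h.sym w v, o]
  generalize hy : x - (B v x / B v v) • v - (B w x / B w w) • w = y at o1 o2
  obtain ⟨s, t, e⟩ := univ h.two (h.ne v0) (h.ne w0) (-β y)
  have : s • v + t • w + y = 0 := by_contra fun c => h.ne c (by
    simp [h.add _ y, k, e, o1, o2])
  exact ⟨B v x / B v v - s, B w x / B w w - t, by linear_combination (norm := module) this + hy⟩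

theorem Hf.eq (h : Hf ω B β) (h' : Hf (fun a d c => ω c d a) B' β') (v : W) : β' v = β v := by
  by_cases hv : v = 0
  · exact mul_left_cancel₀ h.two (by rw [← h.two_mul h', ← h'.two_mul h]; simp [hv])
  have b := h.ne hv
  by_contra c
  have k := (h'.mv (-(β v)⁻¹ • v) (β v) v 1).2 (h.om v)
  have e : 1 + B' (-(β v)⁻¹ • v) v + β v * β' (-(β v)⁻¹ • v) = (β v - β' v) / β v := by
    rw [h'.sq h, map_smul, LinearMap.smul_apply, h'.two_mul h, smul_eq_mul]
    field_simp
    ring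
  have a0 := div_ne_zero (sub_ne_zero.2 (Ne.symm c)) b
  rw [e, smul_smul, mul_neg, mul_inv_cancel₀ b, neg_one_smul, add_neg_cancel] at k
  generalize (β v - β' v) / β v = a at k a0
  obtain ⟨-, -, -, -, -, k1, -⟩ := h.basis h'
  obtain ⟨u, hu⟩ := k1 (-β v / a)
  have k2 := (h.mv u a 0 (β v)).2 k
  rw [hu, map_zero, add_zero, zero_add, mul_div_cancel₀ _ a0, add_neg_cancel] at k2
  rw [(smul_eq_zero.1 (h.oe _ _ k2)).resolve_left a0, ← zero_smul (ZMod p) v, h.sq h'] at hu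
  simp [a0, b, eq_comm (a := (0 : ZMod p))] at hu

theorem Hf.eq' (h : Hf ω B β) (h' : Hf (fun a d c => ω c d a) B' β') (v w : W) :
    B' v w = B v w := by
  have := h'.add v w
  rw [h.eq h', h.eq h', h.eq h', h.add] at this
  exact (add_left_cancel this).symm

variable {H V : Type*} [Group H] [MulAction H V] {φ : ZMod p → W → ZMod p → V}

theorem Hf.mu (h : Hf ω B β) (h' : Hf (fun a d c => ω c d a) B' β')
    (hX : ∀ v, ∃ x : H, ∀ a d c, x • φ a d c = φ a (d + a • v) (c + B v d + a * β v))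
    (hY : ∀ v, ∃ x : H, ∀ a d c, x • φ c d a = φ (c + B' v d + a * β' v) (d + a • v) a)
    (hv : v ≠ 0) :
    ∃ μ : H, ∀ a d c, μ • φ a d c = φ (c / β v) (d - (B v d / β v) • v) (a * β v) := by
  have b := h.ne hv
  obtain ⟨x, hx⟩ := hX v
  obtain ⟨y, hy⟩ := hY (-(β v)⁻¹ • v)
  refine ⟨y * x * y, fun a d c => ?_⟩
  simp only [mul_smul, hx, hy, h.eq h', h.eq' h', h.sq h', map_add, map_smul, LinearMap.smul_apply,
    h.two_mul h', smul_eq_mul]
  congr 1
  · field_simp; ring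
  · match_scalars <;> (field_simp; try ring)
  · field_simp; ring

theorem Hf.main (h : Hf ω B β) (h' : Hf (fun a d c => ω c d a) B' β')
    (hX : ∀ v, ∃ x : H, ∀ a d c, x • φ a d c = φ a (d + a • v) (c + B v d + a * β v))
    (hY : ∀ v, ∃ x : H, ∀ a d c, x • φ c d a = φ (c + B' v d + a * β' v) (d + a • v) a) :
    Nat.card W ≤ p ^ 2 ∧ ∃ (t : H) (l : ZMod p), ∀ d c, t • φ 0 d c = φ 0 (-d) (c * l) := by
  obtain ⟨v, w, v0, w0, o, -, k⟩ := h.basis h'
  obtain ⟨x, hx⟩ := h.mu h' hX hY v0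
  obtain ⟨y, hy⟩ := h.mu h' hX hY w0
  refine ⟨(Nat.card_le_card_of_surjective (fun s : ZMod p × ZMod p => s.1 • v + s.2 • w)
    fun d => ?_).trans_eq (by simp [pow_two]), x * y, β v / β w, fun d c => ?_⟩
  · obtain ⟨s, t, rfl⟩ := k d
    exact ⟨(s, t), rfl⟩
  obtain ⟨s, t, rfl⟩ := k d
  have b := h.ne v0
  have b' := h.ne w0
  simp only [mul_smul, hx, hy, map_add, map_sub, map_smul, h.two_mul h', smul_eq_mul, o, h.sym w v]
  congr 1
  · simp
  · match_scalars <;> field_simp <;> ring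
  · ring

end

open Cfsg.Agent.H21.EA Cfsg.Agent.H21 Cfsg.Agent.H91.Q5

variable {G : Type u} [Group G] {p : ℕ} {E P F Z D : Subgroup G} {g : G}

theorem conj (h : Pt p E P F Z) (g : G) : Pt p (cj g E) (cj g P) (cj g F) (cj g Z) where
  norm := cj_nm g E ▸ cj_mono g h.norm
  zF := cj_mono g h.zF
  le := cj_mono g h.le
  card := by rw [card_cj, card_cj, h.card]
  cZ := by rw [card_cj, h.cZ]
  c1 := cj_St g E F ▸ cj_mono g h.c1
  c2 := cj_St g F Z ▸ cj_mono g h.c2
  c3 := cj_ce g Z ▸ cj_mono g h.c3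
  ab := by
    rintro _ ⟨x, hx, rfl⟩ _ ⟨y, hy, rfl⟩
    rw [← cj_ce]
    exact ⟨_, h.ab x hx y hy, conj_comm ..⟩
  surj := by
    rintro _ ⟨m, hm, rfl⟩ hm' _ ⟨f, hf, rfl⟩
    obtain ⟨x, hx, e⟩ := h.surj m hm (fun c => hm' (conj_mem_cj g c)) f hf
    exact ⟨_, conj_mem_cj g hx, _, e, by simp [commutatorElement_def, mul_assoc]⟩
  inj := by
    rintro _ ⟨m, hm, rfl⟩ hm' _ ⟨⟨x, hx, rfl⟩, e⟩
    rw [← cj_ce]
    refine conj_mem_cj g (h.inj m hm (fun c => hm' (conj_mem_cj g c)) ⟨hx, mem_St_one.2 ⟨?_, ?_⟩⟩)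
    · exact ce_le_nm le_rfl (h.c3 hx)
    · simpa [commutatorElement_def, mul_assoc] using mem_cj.1 (mem_St_one.1 e).2
  nd := by rw [← cj_ce, ← cj_ce, ← cj_inf]; exact cj_mono g h.nd

variable [Finite G] [hp : Fact p.Prime] {hE : IsElementaryAbelian p E} {e z : EA E hE}

omit [Finite G] in
theorem val_zsmul (k : ℤ) (x : EA E hE) : val ((k : ZMod p) • x) = val x ^ k := by
  rw [Int.cast_smul_eq_zsmul]; rfl

omit [Finite G] hp in
theorem pE (hE : IsElementaryAbelian p E) : IsPGroup p E := fun x =>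
  ⟨1, Subtype.ext (by simpa using hE.2 x x.2)⟩

theorem dec (hF : F ≤ E) (hD : D ≤ F) (hc : Nat.card F ≤ p * Nat.card D) (hz : val z ∈ F)
    (hz' : val z ∉ D) {y : EA E hE} (hy : val y ∈ F) :
    ∃ d : sub hE D, ∃ c : ZMod p, y = d + c • z := by
  rw [← sup_zpowers_eq ((pE hE).to_le hF) hD hc hz hz', mem_sup_zpowers
    (le_nm_of_card ((pE hE).to_le hF) hD hc hz)] at hy
  obtain ⟨a, ha, k, e⟩ := hy
  exact ⟨⟨mk hE a (hF (hD ha)), ha⟩, k, val_injective (by rw [val_add, val_zsmul, ← e]; rfl)⟩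

omit [Finite G] in
theorem uq (hz' : val z ∉ D) {d : sub hE D} {c : ZMod p} (h : (d : EA E hE) + c • z = 0) :
    c = 0 ∧ d = 0 := by
  have : c = 0 := by_contra fun e => hz' (mem_sub.1 (((sub hE D).smul_mem_iff e).1
    (eq_neg_of_add_eq_zero_right h ▸ neg_mem d.2)))
  exact ⟨this, by simpa [this] using h⟩

theorem half (h : Pt p E P F Z) (hD : D ≤ F) (hc : Nat.card F ≤ p * Nat.card D) (hz : val z ∈ Z)
    (hz' : val z ∉ D) (he : val e ∉ F) :
    ∃ (B : sub hE D →ₗ[ZMod p] sub hE D →ₗ[ZMod p] ZMod p) (β : sub hE D → ZMod p),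
      (∀ v w, B v w = B w v) ∧ (∀ v w, β (v + w) = β v + β w + B v w) ∧
      (∀ v, (∀ d, B v d = 0) → v = 0) ∧ ∀ v, ∃ x : nm E, ∀ (a : ZMod p) (d : sub hE D) (c : ZMod p),
        rep hE le_rfl x (a • e + d + c • z) =
          a • e + (d + a • v : sub hE D) + (c + B v d + a * β v) • z := by
  have dZ : ∀ {y : EA E hE}, val y ∈ Z → ∃ c : ZMod p, y = c • z := fun hy => by
    obtain ⟨⟨d, hd⟩, c, e⟩ := dec (D := ⊥) (h.zF.trans h.le) bot_le
      (by rw [h.cZ, card_bot, mul_one]) hz (fun c => hz' (mem_bot.1 c ▸ one_mem _)) hy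
    exact ⟨c, by simpa [val_eq_one.1 hd] using e⟩
  have k1 : ∀ v : sub hE D, ∃ x : nm E, ∃ b : ZMod p, (x : G) ∈ P ∧
      rep hE le_rfl x e = e + v + b • z := fun v => by
    obtain ⟨x, hx, c⟩ := h.surj _ (val_mem e) he _ (hD v.2)
    obtain ⟨b, hb⟩ := dZ (y := (rep hE le_rfl ⟨x, h.norm hx⟩ - 1) e - v)
      (by rwa [val_sub, val_rep_sub_one])
    exact ⟨⟨x, h.norm hx⟩, b, hx, by linear_combination (norm := (simp; abel)) hb⟩
  choose x β xP hx using k1
  have k2 : ∀ v d : sub hE D, ∃ c : ZMod p, rep hE le_rfl (x v) d = d + c • z := fun v d => by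
    obtain ⟨c, hc⟩ := dZ (y := (rep hE le_rfl (x v) - 1) d)
      (by rw [val_rep_sub_one]; exact (h.c2 (xP v)).2 _ (hD d.2))
    exact ⟨c, by linear_combination (norm := (simp; abel)) hc⟩
  choose B hB using k2
  have k3 : ∀ v, rep hE le_rfl (x v) z = z := fun v =>
    (rep_apply_eq_self_iff _ _ _).2 (h.c3 (xP v) _ hz).symm
  have u0 : ∀ {c c' : ZMod p}, (c - c') • z = 0 → c = c' := fun c =>
    sub_eq_zero.1 (uq (d := 0) hz' (by simpa using c)).1
  have k4 : ∀ v w, rep hE le_rfl (x v * x w) e = e + v + w + (β v + β w + B v w) • z :=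
    fun v w => by
      rw [map_mul, Module.End.mul_apply, hx, map_add, map_add, map_smul, hx, hB, k3]; module
  have sym : ∀ v w, B v w = B w v := fun v w => u0 (by
    have e1 := (rep_eq_one_iff (hV := hE) le_rfl ⁅x v, x w⁆).2 (h.ab _ (xP v) _ (xP w))
    have e2 : x v * x w = ⁅x v, x w⁆ * (x w * x v) := by simp [commutatorElement_def]
    have e3 := k4 v w
    rw [e2, map_mul, e1, one_mul, k4] at e3
    linear_combination (norm := module) -e3)
  have ad : ∀ v d d', B v (d + d') = B v d + B v d' := fun v d d' => u0 (by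
    have := hB v (d + d')
    rw [Submodule.coe_add, map_add, hB, hB] at this
    linear_combination (norm := module) -this)
  have sm : ∀ (c : ZMod p) v d, B v (c • d) = c • B v d := fun c v d => u0 (by
    have := hB v (c • d)
    rw [Submodule.coe_smul, map_smul, hB] at this
    rw [smul_eq_mul]
    linear_combination (norm := module) -this)
  refine ⟨LinearMap.mk₂ (ZMod p) B (fun a b c => by simp only [sym _ c, ad])
    (fun a b c => by simp only [sym _ c, sm]) ad sm, β, sym, fun v w => u0 ?_, fun v hv => ?_,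
    fun v => ⟨x v, fun a d c => ?_⟩⟩
  · have e1 : rep hE le_rfl ((x (v + w))⁻¹ * (x v * x w)) e =
        e + (β v + β w + B v w - β (v + w)) • z := by
      have : rep hE le_rfl (x v * x w) e =
          rep hE le_rfl (x (v + w)) (e + (β v + β w + B v w - β (v + w)) • z) := by
        rw [k4, map_add, map_smul, hx, k3, Submodule.coe_add]; module
      rw [map_mul, Module.End.mul_apply, this, ← Module.End.mul_apply, ← map_mul, inv_mul_cancel,
        map_one, Module.End.one_apply]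
    have hP := mul_mem (inv_mem (xP (v + w))) (mul_mem (xP v) (xP w))
    have e2 := (rep_eq_one_iff (hV := hE) le_rfl ((x (v + w))⁻¹ * (x v * x w))).2
      (h.inj _ (val_mem e) he ⟨hP, mem_St_one.2 ⟨ce_le_nm le_rfl (h.c3 hP), by
        rw [← val_rep_sub_one (hV := hE) le_rfl, LinearMap.sub_apply, e1]
        exact (sub hE Z).mem_carrier.2 (by simpa using (sub hE Z).smul_mem _ hz)⟩⟩)
    rw [e2, Module.End.one_apply] at e1
    rw [LinearMap.mk₂_apply]
    linear_combination (norm := module) e1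
  · have e1 := (rep_eq_one_iff (hV := hE) le_rfl (x v)).2 (h.nd ⟨xP v, fun f hf => by
      obtain ⟨d, c, e⟩ := dec (y := mk hE f (h.le hf)) h.le hD hc (h.zF hz) hz' hf
      refine ((rep_apply_eq_self_iff le_rfl (x v) (mk hE f (h.le hf))).1 ?_).symm
      rw [e, map_add, map_smul, hB, k3, show B v d = 0 from hv d, zero_smul, add_zero]⟩)
    have e2 := hx v
    rw [e1, Module.End.one_apply] at e2
    exact (uq (c := β v) hz' (by linear_combination (norm := module) -e2)).2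
  · simp only [map_add, map_smul, hx, hB, k3, Submodule.coe_add, Submodule.coe_smul,
      LinearMap.mk₂_apply]
    module

end LN

open LN Cfsg.Agent.H21.EA Cfsg.Agent.H21 Cfsg.Agent.H91.Q5

variable {G : Type u} [Group G] [Finite G] {p : ℕ} [hp : Fact p.Prime] {E P F Z : Subgroup G}
  {g : G}

theorem lin (ho : Odd p) (hE : E ≤ ce E) (he : ∀ x ∈ E, x ^ p = 1) (h : Pt p E P F Z)
    (hg : g ∈ nm E) (hg' : g ∉ nm Z) (om : ∀ g ∈ nm E, cj g Z ≤ F → g ∈ nm Z)
    (big : p ^ 3 ≤ Nat.card F) :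
    Nat.card F = p ^ 3 ∧ ∃ t ∈ nm E, t ∈ nm Z ∧ ∀ f ∈ F, t * f * t⁻¹ * f ∈ Z := by
  have hV : IsElementaryAbelian p E := ⟨⟨⟨fun x y => Subtype.ext (hE y.2 x x.2)⟩⟩, he⟩
  have h' := LN.conj h g
  rw [cj_eq hg] at h'
  have gen : ∀ k, ∀ y ∈ cj k Z, y ≠ 1 → ∀ X : Subgroup G, y ∈ X → cj k Z ≤ X :=
    fun k y hy y1 X e => le_gen (((pE hV).to_le (h.zF.trans h.le)).map _) bot_le
      (by rw [card_cj, h.cZ, card_bot, mul_one]) bot_le hy y1 e
  have om' : ∀ k ∈ nm E, ∀ y ∈ Z, y ≠ 1 → k * y * k⁻¹ ∈ F → k ∈ nm Z := fun k hk y hy y1 e =>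
    om k hk (gen k _ (conj_mem_cj k hy) (by simpa using y1) F e)
  obtain ⟨z, hz, z1⟩ := exists_not_mem (p := p) (A := ⊥) (B := Z) (by rw [h.cZ, card_bot, mul_one])
  have e0 := conj_mem_cj g hz
  have z' : z ∉ cj g F := fun c => hg' (inv_mem_iff.1 (om' _ (inv_mem hg) z hz z1
    (by simpa using mem_cj.1 c)))
  have e' : g * z * g⁻¹ ∉ F := fun c => hg' (om' g hg z hz z1 c)
  have c1 := card_eq_inf (pE hV) h'.le h'.card.le h.le fun c => z' (c (h.zF hz))
  have c2 := card_le_inf (pE hV) h.le h.card.le h'.le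
  rw [inf_comm] at c2
  set D := F ⊓ cj g F
  set zv := mk hV z (h.le (h.zF hz))
  set ev := mk hV _ (h'.le (h'.zF e0))
  obtain ⟨B, β, b1, b2, b3, b4⟩ := half (e := ev) (z := zv) h inf_le_left c1.le hz
    (fun c => z' c.2) e'
  obtain ⟨B', β', b1', b2', b3', b4'⟩ := half (e := zv) (z := ev) h' inf_le_right c2 e0
    (fun c => e' c.1) z'
  have cD : Nat.card (sub hV D) = Nat.card D := card_sub (inf_le_left.trans h.le)
  have two : (2 : ZMod p) ≠ 0 := fun c => by
    have := (Nat.prime_dvd_prime_iff_eq hp.out Nat.prime_two).1 ((ZMod.natCast_eq_zero_iff 2 p).1 c)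
    exact absurd (this ▸ ho) (by decide)
  have bg : ∀ v : sub hV D, ∃ d, ∀ a : ZMod p, d ≠ a • v := fun v => by
    by_contra c
    push Not at c
    have := Nat.card_le_card_of_surjective (fun a : ZMod p => a • v) fun d => (c d).imp
      fun _ => Eq.symm
    rw [cD, Nat.card_zmod] at this
    have := big.trans (c1.le.trans (Nat.mul_le_mul_left _ this))
    rw [← sq, Nat.pow_le_pow_iff_right hp.out.one_lt] at this
    omega
  let Ω : EA E hV → Prop := fun y => y ≠ 0 ∧ ∃ x : nm E, val (rep hV le_rfl x y) ∈ Z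
  have o1 : ∀ x y, Ω (rep hV le_rfl x y) ↔ Ω y := fun x y => and_congr
    (by simp [← val_eq_one, val_rep]) ⟨fun ⟨k, c⟩ => ⟨k * x, by rwa [map_mul]⟩,
      fun ⟨k, c⟩ => ⟨k * x⁻¹, by rwa [← Module.End.mul_apply, ← map_mul, inv_mul_cancel_right]⟩⟩
  have o2 : ∀ (l : ZMod p) y, l ≠ 0 → Ω y → Ω (l • y) := fun l y hl ⟨c, k, c'⟩ =>
    ⟨smul_ne_zero hl c, k, by rw [map_smul]; exact (sub hV Z).smul_mem l c'⟩
  have o3 : ∀ k ∈ nm E, ∀ y : EA E hV, D ≤ cj k F → val y ∈ cj k Z → val y ∉ D →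
      ∀ (a : ZMod p) (d : sub hV D), Ω (a • y + d) → d = 0 := by
    rintro k hk y l hy hy' a d ⟨c, x, hx⟩
    have y1 := (sub hV (cj k Z)).smul_mem a hy
    have y2 := mem_cj.1 (mem_sub.1 ((sub hV (cj k F)).add_mem (cj_mono k h.zF y1) (l d.2)))
    rw [val_rep] at hx
    have y3 := conj_mem (om' _ (inv_mem (mul_mem x.2 hk)) _ hx (by simpa [val_eq_one] using c)
      (by simpa [mul_assoc] using y2)) hx
    have y4 : a • y + d ∈ sub hV (cj k Z) := mem_cj.2 (by simpa [mul_assoc] using y3)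
    by_contra d0
    exact hy' (gen k _ ((add_mem_cancel_left y1).1 y4) (by simpa [val_eq_one] using d0) D d.2 hy)
  have sw : ∀ (a : ZMod p) (d : sub hV D) (c : ZMod p), a • zv + d + c • ev = c • ev + d + a • zv :=
    fun a d c => by abel
  simp only [sw] at b4'
  have sm : ∀ (l a : ZMod p) (d : sub hV D) (c : ZMod p), l ≠ 0 → Ω (a • ev + d + c • zv) →
      Ω ((l * a) • ev + (l • d : sub hV D) + (l * c) • zv) := fun l a d c hl k => by
    simpa [smul_smul] using o2 l _ hl k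
  have H : Hf (fun a (d : sub hV D) c => Ω (a • ev + d + c • zv)) B β :=
    ⟨two, bg, b1, b2, b3, fun v a d c => by obtain ⟨x, hx⟩ := b4 v; rw [← hx, o1], sm,
      by simpa using ⟨fun c => e' (mem_sub.1 (show ev ∈ sub hV F from c ▸ zero_mem _)), ⟨g⁻¹, inv_mem hg⟩,
        by simpa [val_rep, ev, val_mk, mul_assoc] using hz⟩,
      fun a d k => o3 g hg ev inf_le_right e0 (fun c => e' c.1) a d (by simpa using k)⟩
  have H' : Hf (fun a (d : sub hV D) c => Ω (c • ev + d + a • zv)) B' β' :=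
    ⟨two, bg, b1', b2', b3', fun v a d c => by obtain ⟨x, hx⟩ := b4' v; rw [← hx, o1],
      fun l a d c => sm l c d a,
      by simpa using ⟨fun c => z1 (congrArg val c), 1, by rw [map_one]; exact hz⟩,
      fun a d k => o3 1 (one_mem _) zv (inf_le_left.trans (cj_one F).ge) ((cj_one Z).ge hz)
        (fun c => z' c.2) a d (by simpa [add_comm] using k)⟩
  let := MulAction.compHom (EA E hV) (rep hV (le_refl (nm E)))
  obtain ⟨c3, t, l, ht⟩ := H.main H' (H := nm E) (φ := fun a (d : sub hV D) c => a • ev + d + c • zv) b4 b4'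
  have k : ∀ f ∈ F, (t : G) * f * (t : G)⁻¹ * f ∈ Z := fun f hf => by
    obtain ⟨d, c, e⟩ := dec (z := zv) (y := mk hV f (h.le hf)) h.le inf_le_left c1.le (h.zF hz)
      (fun c => z' c.2) hf
    have : rep hV le_rfl t (mk hV f (h.le hf)) + mk hV f (h.le hf) = (c * l + c) • zv := by
      have := ht d c
      simp only [zero_smul, zero_add] at this
      rw [e]
      exact (congrArg (· + _) this).trans (by simp only [Submodule.coe_neg]; module)
    have e1 := (sub hV Z).smul_mem (c * l + c) (show zv ∈ sub hV Z from hz)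
    rwa [← this] at e1
  refine ⟨le_antisymm ?_ big, t, t.2, mem_nm_of_conj fun x hx =>
    (mul_mem_cancel_right hx).1 (k x (h.zF hx)), k⟩
  rw [c1, ← cD, pow_succ']
  exact Nat.mul_le_mul_left _ c3

end Cfsg.Agent.EX
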