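import Cfsg.Agent.EX.Basic
import Cfsg.Agent.EX.Lin

/-! Project EX: the unitary case. -/

set_option autoImplicit false

namespace Cfsg.Agent.EX

open Subgroup Cfsg.Agent.SR3
open scoped commutatorElement

universe u

variable {G : Type u} [Group G] [Finite G] {p : ℕ} [hp : Fact p.Prime] {S Q Z E : Subgroup G}

theorem caseU (h : Xs p S Q Z) (m : Mv p S Q Z E) (om : ∀ g ∈ nm E, cj g Z ≤ Q → g ∈ nm Z)
    (hE : E ≤ ce E) (he : ∀ x ∈ E, x ^ p = 1) (hn : S ≤ nm E) (h1 : Q ⊓ ce (E ⊓ Q) ≤ E)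
    (h2 : Q ⊓ St S Z = E ⊓ Q) : HypO p S Q Z E := by
  have p1 := hp.out.one_lt
  have ZF : Z ≤ E ⊓ Q := le_inf (m.ZE h) h.ZQ
  have cF : E ≤ ce (E ⊓ Q) := hE.trans (centralizer_le inf_le_left)
  have eF : Q ⊓ ce (E ⊓ Q) = E ⊓ Q :=
    le_antisymm (le_inf h1 inf_le_left) (le_inf inf_le_right (inf_le_left.trans cF))
  have nF : S ≤ nm (E ⊓ Q) := fun _ hs => nm_inf (hn hs) (h.nQ hs)
  have st : ∀ {x}, x ∈ E → x ∉ Q → Q ⊓ St {x} Z = E ⊓ Q := fun hx hx' =>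
    (h.St_one le_rfl h.nZ (m.le hx) hx').trans h2
  have d := h.dual ZF inf_le_right
  rw [eF] at d
  obtain ⟨g, hg, hg'⟩ := SetLike.not_le_iff_exists.1 m.mv
  obtain ⟨c, t, t1, t2, t3⟩ := lin (P := Q) h.odd hE he ⟨h.le.trans hn, ZF, inf_le_left, m.card h,
    h.cZ, le_St (h.le.trans nF) fun q hq x hx => ⟨comm_mem_of_nm (hn (h.le hq)) hx,
      comm_symm (comm_mem_of_nm (h.nQ (m.le hx)) hq)⟩, h.StZ.trans (St_anti inf_le_right),
    h.le.trans h.ceZ, fun x hx y hy => hE (m.ZE h (h.comm x hx y hy)),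
    fun x hx hx' f hf => h.exists_comm (m.le hx) (fun e => hx' ⟨hx, e⟩) (h2 ▸ eF.ge hf),
    fun x hx hx' => (st hx fun e => hx' ⟨hx, e⟩).le.trans (inf_le_left.trans hE), h1.trans hE⟩
    hg hg' (fun g hg e => om g hg (e.trans inf_le_right)) (by
      have := Nat.mul_le_mul_left p h.big
      rw [← d, ← pow_succ', show 5 + 1 = 3 + 3 from rfl, pow_add] at this
      exact Nat.mul_self_le_mul_self_iff.1 this)
  have cQ : Nat.card Q = p ^ 5 := Nat.eq_of_mul_eq_mul_left hp.out.pos (by rw [← d, c]; ring)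
  obtain ⟨e, e1, e2⟩ := SetLike.not_le_iff_exists.1 m.nle
  refine ⟨by rw [h.card, cQ]; ring, fun q hq => ?_, m.le, hn, hE, he, by rw [m.card h, c]; ring,
    m.nle, (inf_le_inf_left _ (St_anti (by simpa using e1))).trans ((st e1 e2).le.trans inf_le_left)⟩
  have tF : t ∈ nm (E ⊓ Q) := mem_nm_of_conj fun f hf => by
    simpa using mul_mem (ZF (t3 f hf)) (inv_mem hf)
  obtain ⟨l, ⟨⟨-, l2⟩, -⟩, hl⟩ := m.loc.frat (nm E ⊓ St (E ⊓ Q : Subgroup G) Z ⊓ ce Z)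
    (inf_le_left.trans (le_inf (le_inf hn (le_St_symm (h2.ge.trans inf_le_right) h.nZ)) h.ceZ))
    (le_inf (le_inf (ce_le_nm le_rfl) (ce_le_St inf_le_left (m.ZE h))) (centralizer_le (m.ZE h)))
    (inf_le_left.trans inf_le_left) t t1 (nm_inf (nm_inf (nm_nm t1) (nm_St tF t2)) (nm_ce t2))
  rw [inf_eq_left.2 hn] at hl
  have s3 : ∀ f ∈ E ⊓ Q, t * l * f * (t * l)⁻¹ * f ∈ Z := fun f hf => by
    convert mul_mem (conj_mem t2 (l2.2 f hf)) (t3 f hf) using 1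
    simp [commutatorElement_def, mul_assoc]
  generalize t * l = s at hl s3
  have sQ := conj_mem (h.nmQ (by rw [h2, c]) hl) hq
  obtain ⟨k, hk⟩ := exists_wt (Y := ⊥) (h.pg.to_le h.ZS) bot_le (by simp [h.cZ]) (h.nmZ hl) nm_bot
  have w : ∀ z ∈ Z, s * z * s⁻¹ = z ^ k := fun z hz => mul_inv_eq_one.1 (mem_bot.1 (hk z hz))
  have a := he _ (h1 ⟨mul_mem sQ (zpow_mem hq k), H91.Q5.mem_ce_of fun f hf => by
    have b := h.comm_mul_r (h.ZQ (s3 f hf)) (inv_mem hf.2) sQ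
    rw [mul_inv_cancel_right, ← conj_comm, w _ (h.comm q hq f hf.2),
      commutatorElement_eq_one_iff_commute.2 (h.cm (s3 f hf) (h.le sQ)), one_mul] at b
    have b' := h.comm_zpow' hq hf.2 k 1
    rw [zpow_one, mul_one] at b'
    rw [h.comm_mul_l sQ (zpow_mem hq k) hf.2, b', b, ← h.comm_mul_r hf.2 (inv_mem hf.2) sQ]
    simp⟩)
  rw [h.mul_pow' sQ (zpow_mem hq k), conj_pow, w _ (h.pow hq), ← zpow_natCast (q ^ k), ← zpow_mul,
    mul_comm k, zpow_mul, zpow_natCast, ← zpow_add, ← two_mul] at a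
  refine by_contra fun n => ?_
  have pz : ∀ x ∈ Z, x ^ p ∈ (⊥ : Subgroup G) := fun x hx => h.powZ hx
  obtain b | b := Int.Prime.dvd_mul' hp.out (dvd_of_zpow_mem (pz _ (h.pow hq)) n a)
  · exact h.odd.not_two_dvd_nat ((Nat.prime_dvd_prime_iff_eq hp.out Nat.prime_two).1
      (by exact_mod_cast b) ▸ dvd_rfl)
  · exact H91.Q5.Wt.not_dvd hk nm_bot pz (h.pow hq) n b


end Cfsg.Agent.EX
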