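import Cfsg.Agent.SR3.Par
import Cfsg.Agent.H91.Q5D

/-! Project EX (an extraspecial subgroup of index `p`): definitions. -/

set_option autoImplicit false

namespace Cfsg.Agent.EX

open Subgroup Cfsg.Agent.SR3
open scoped commutatorElement

variable {G : Type*} [Group G]

/-- `Q` is extraspecial of index `p` in `S`, and `Z = Z(Q) = Z(S)`. -/
structure Xs (p : ℕ) (S Q Z : Subgroup G) : Prop where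
  odd : Odd p
  pg : IsPGroup p S
  le : Q ≤ S
  card : Nat.card S = p * Nat.card Q
  cZ : Nat.card Z = p
  zQ : Q ⊓ ce Q = Z
  zS : S ⊓ ce S = Z
  comm : ∀ x ∈ Q, ∀ y ∈ Q, ⁅x, y⁆ ∈ Z
  big : p ^ 5 ≤ Nat.card Q

/-- An essential subgroup moving `Z`, of largest order. -/
structure Mv (p : ℕ) (S Q Z E : Subgroup G) : Prop where
  le : E ≤ S
  nle : ¬ E ≤ Q
  loc : Loc p (S ⊓ nm E) E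
  mv : ¬ nm E ≤ nm Z
  key : ∀ g ∈ nm E, g ∉ nm Z → S ⊓ ce (cj g Z) = E
  cen : ∀ g, cj g E ≤ S → S ⊓ ce (cj g E) ≤ cj g E
  sat : ∀ X ≤ S, (∀ g, cj g X ≤ S → Nat.card ↥(S ⊓ nm (cj g X)) ≤ Nat.card ↥(S ⊓ nm X)) →
    Loc p (S ⊓ nm X) X

/-- The orthogonal configuration. -/
structure HypO (p : ℕ) (S Q Z U : Subgroup G) : Prop where
  card : Nat.card S = p ^ 6
  exp : ∀ q ∈ Q, q ^ p = 1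
  le : U ≤ S
  norm : S ≤ nm U
  ab : U ≤ ce U
  expU : ∀ u ∈ U, u ^ p = 1
  cU : Nat.card U = p ^ 4
  nle : ¬ U ≤ Q
  nd : Q ⊓ St U Z ≤ U

/-- The configuration of type `G₂`. -/
structure HypG (p : ℕ) (S Q Z : Subgroup G) (a : G) : Prop where
  card : Nat.card S = p ^ 6
  exp : ∀ q ∈ Q, q ^ p = 1
  mem : a ∈ S
  nmem : a ∉ Q
  pa : a ^ p = 1
  c2 : Nat.card ↥(Q ⊓ St S Z) ≤ p ^ 2
  cen : Q ⊓ St S Z ≤ centralizer {a}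

/-- A group `P` of Siegel transformations of `E` with centre `Z` and hyperplane `F`. -/
structure Pt (p : ℕ) (E P F Z : Subgroup G) : Prop where
  norm : P ≤ nm E
  zF : Z ≤ F
  le : F ≤ E
  card : Nat.card E = p * Nat.card F
  cZ : Nat.card Z = p
  c1 : P ≤ St E F
  c2 : P ≤ St F Z
  c3 : P ≤ ce Z
  ab : ∀ x ∈ P, ∀ y ∈ P, ⁅x, y⁆ ∈ ce E
  surj : ∀ m ∈ E, m ∉ F → ∀ f ∈ F, ∃ x ∈ P, ⁅x, m⁆ * f⁻¹ ∈ Z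
  inj : ∀ m ∈ E, m ∉ F → P ⊓ St {m} Z ≤ ce E
  nd : P ⊓ ce F ≤ ce E

/-- Relations of the Sylow subgroups of the groups `Ω₆^±(p)`. -/
structure RelO (p : ℕ) (δ : ℤ) (e w₁ w₂ f₁ f₂ z : G) : Prop where
  pe : e ^ p = 1
  p1 : w₁ ^ p = 1
  p2 : w₂ ^ p = 1
  q1 : f₁ ^ p = 1
  q2 : f₂ ^ p = 1
  pz : z ^ p = 1
  e1 : ⁅w₁, e⁆ = f₁
  e2 : ⁅w₂, e⁆ = f₂
  ww : ⁅w₁, w₂⁆ = 1
  b11 : ⁅w₁, f₁⁆ = z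
  b12 : ⁅w₁, f₂⁆ = 1
  b21 : ⁅w₂, f₁⁆ = 1
  b22 : ⁅w₂, f₂⁆ = z ^ δ
  ef1 : ⁅e, f₁⁆ = 1
  ef2 : ⁅e, f₂⁆ = 1
  ff : ⁅f₁, f₂⁆ = 1
  ez : ⁅e, z⁆ = 1
  w1z : ⁅w₁, z⁆ = 1
  w2z : ⁅w₂, z⁆ = 1
  f1z : ⁅f₁, z⁆ = 1
  f2z : ⁅f₂, z⁆ = 1
  ne : z ≠ 1

/-- Relations of the Sylow subgroup of `G₂(p)`. -/
structure RelG (p : ℕ) (a b₁ b₂ b₃ b₄ z : G) : Prop where
  pa : a ^ p = 1
  p1 : b₁ ^ p = 1
  pz : z ^ p = 1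
  a1 : ⁅a, b₁⁆ = b₂
  a2 : ⁅a, b₂⁆ = b₃
  a3 : ⁅a, b₃⁆ = b₄
  a4 : ⁅a, b₄⁆ = 1
  az : ⁅a, z⁆ = 1
  b12 : ⁅b₁, b₂⁆ ∈ zpowers z
  b13 : ⁅b₁, b₃⁆ = z
  b14 : ⁅b₁, b₄⁆ = z
  b23 : ⁅b₂, b₃⁆ = z⁻¹
  b24 : ⁅b₂, b₄⁆ = 1
  b34 : ⁅b₃, b₄⁆ = 1
  z1 : ⁅b₁, z⁆ = 1
  z2 : ⁅b₂, z⁆ = 1
  z3 : ⁅b₃, z⁆ = 1
  z4 : ⁅b₄, z⁆ = 1
  ne : z ≠ 1

/-- The group generated by six elements. -/
def gen6 (a b c d e f : G) : Subgroup G := closure {a, b, c, d, e, f}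

/-- The upper series of `Q` with respect to `S`. -/
def Up (S Q Z : Subgroup G) : ℕ → Subgroup G
  | 0 => Z
  | n + 1 => Q ⊓ St S (Up S Q Z n)

end Cfsg.Agent.EX
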