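import Cfsg.Agent.EX.Basic
import Cfsg.Agent.SR3.Rows
import Cfsg.Agent.S5178
import Cfsg.Agent.S5179

/-! Project EX: from the fusion system to the local configuration. -/

set_option autoImplicit false

namespace Cfsg.Agent.EX

open Subgroup Cfsg.Agent.SR3
open scoped commutatorElement

universe u

variable {G : Type u} [Group G] [Finite G] {p : ℕ} [hp : Fact p.Prime] {S Q : Subgroup G}

theorem xs_of (ho : Odd p) (hS : IsPGroup p S) (hQS : Q ≤ S) (hQ : IsExtraspecial p Q)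
    (hi : (Q.subgroupOf S).index = p) (h6 : p ^ 6 ≤ Nat.card S)
    (hF : (groupFusionSystem S).IsSaturated p) (hO : (groupFusionSystem S).core = ⊥) :
    Xs p S Q (S ⊓ ce S) ∧ ∃ E, Mv p S Q (S ⊓ ce S) E := by
  have hz : S ⊓ ce S = Q ⊓ ce Q := S5178.result p ho hS Q hQS hQ hi _ hF hO
  obtain ⟨h1, h2⟩ := H93.exs_center hQ
  have hc : Nat.card S = p * Nat.card Q := by
    rw [← H91.card_mul_relIndex hQS, relIndex, hi, mul_comm]
  have hx : Xs p S Q (S ⊓ ce S) := ⟨ho, hS, hQS, hc, hz ▸ h1, hz.symm, rfl,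
    fun x hx y hy => hz ▸ h2.le (commutator_mem_commutator hx hy),
    Nat.le_of_mul_le_mul_left (by rwa [← pow_succ', ← hc]) hp.out.pos⟩
  refine ⟨hx, ?_⟩
  set Z := S ⊓ ce S
  have cen : ∀ E, (groupFusionSystem S).IsEssential p E → ∀ g, cj g E ≤ S →
      S ⊓ ce (cj g E) ≤ cj g E := fun E hE g hg =>
    hE.1.2 _ (H92.isConj_group_iff.2 ⟨hE.1.1, hg, g, rfl⟩)
  have ZE : ∀ E, (groupFusionSystem S).IsEssential p E → Z ≤ E := fun E hE => by
    have := cen E hE 1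
    rw [cj_one] at this
    exact (inf_le_inf_left _ (centralizer_le hE.1.1)).trans (this hE.1.1)
  obtain ⟨E, ⟨hE, mv⟩, mx⟩ := Set.Finite.exists_maximalFor (fun E : Subgroup G => Nat.card E)
    {E | (groupFusionSystem S).IsEssential p E ∧ ¬ nm E ≤ nm Z} (Set.toFinite _)
    (Set.nonempty_iff_ne_empty.2 fun e => by
      have := core_free hS hF hO Z ⟨hx.ZS, hx.nmZ, ZE, fun E hE => by_contra fun e' =>
        (e.le ⟨hE, e'⟩ : E ∈ (∅ : Set _))⟩
      exact hp.out.one_lt.ne' (by rw [← hx.cZ, this, card_bot]))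
  have big : ∀ P f, E < P → H91.M (groupFusionSystem S) P f → ∀ x ∈ Z, f x ∈ Z := by
    intro P f hP hf
    have ZP := (ZE E hE).trans hP.le
    refine H91.alperin_induction hS hF (C := fun f => ∀ x ∈ Z, f x ∈ Z)
      (fun f e x hx => (e x (ZP hx)).symm ▸ hx) (fun f g R α hf ih hR hα h3 h4 x hx' => ?_) hf
    have hRS : R ≤ S := hR.elim Eq.le fun h => h.1.1
    obtain ⟨a, ha, rfl⟩ := (fus_mem_aut hRS).1 hα
    rw [h4 x (ZP hx'), H91.efn_cjAut R a ha (h3 x (ZP hx'))]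
    refine conj_mem ?_ (ih x hx')
    rcases hR with rfl | hR
    · exact hx.nmZ ha
    refine by_contra fun e => (H91.card_lt_of_lt hP).not_ge ?_
    obtain ⟨-, -, b, hb⟩ := H91.M_group_iff.1 hf
    have c : Nat.card P ≤ Nat.card R := card_cj b P ▸ H91.card_le_of_le (by
      rintro _ ⟨y, hy, rfl⟩
      exact (hb y hy).subst (motive := (· ∈ R)) (h3 y hy))
    exact c.trans (mx ⟨hR, fun e' => e (e' ha)⟩ ((H91.card_le_of_le hP.le).trans c))
  obtain ⟨hlt, hfn, -⟩ := (H91.isEssential_iff hS hF).1 hE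
  have hL := loc_of hS hF hfn
  refine ⟨E, hlt.le, fun e => mv ?_, hL, mv, fun g hg hg' => ?_, cen E hE,
    fun X => H91.Q5.loc_max hS hF⟩
  · rw [S5179.result p ho hS Q hQS hQ hi h6 _ hF hO E e hE, hz]
    exact fun _ hg => nm_inf hg (nm_ce hg)
  have l1 : E ≤ S ⊓ ce (cj g Z) := le_inf hlt.le (by
    rw [← cj_ce, ← cj_eq hg]
    exact cj_mono g (hlt.le.trans hx.ceZ))
  refine by_contra fun e => hg' ?_
  obtain ⟨x, ⟨x1, x2⟩, x3⟩ := SetLike.not_le_iff_exists.1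
    (H91.lt_normalizerIn (hS.to_le inf_le_left) (lt_of_le_of_ne l1 (Ne.symm e))).not_ge
  replace x2 : x ∈ nm E := x2
  obtain ⟨k, hk⟩ := hS ⟨x, x1.1⟩
  have hk : x ^ p ^ k = 1 := congrArg Subtype.val hk
  obtain ⟨a, ha, e⟩ := syl_conj (L := nm E ⊓ nm Z) (P := zpowers (g⁻¹ * x * g⁻¹⁻¹)) hL.pg hL.norm
    hL.syl le_rfl (fun _ => nm_ce) (le_inf inf_le_right (inf_le_left.trans hx.nZ)) inf_le_left
    (zpowers_le.2 (mem_inf.2 ⟨mul_mem (mul_mem (inv_mem hg) x2) (inv_mem (inv_mem hg)), ce_le_nm le_rfl (by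
      simpa using mem_cj.1 ((cj_ce g Z).ge x1.2))⟩)) (by
      rintro _ ⟨i, rfl⟩
      exact ⟨k, by
        rw [← zpow_natCast, ← zpow_mul, mul_comm, zpow_mul, zpow_natCast, conj_pow, hk]; simp⟩)
  obtain ⟨a1, a2⟩ := mem_inf.1 ha
  have hn := mul_mem a1 (inv_mem hg)
  have hα := (fus_mem_aut hlt.le).2 ⟨_, hn, rfl⟩
  obtain ⟨f, hf, ef⟩ := ((H91.mem_autGroup_iff hlt.le).1 hα).extend (H91.im_efn _)
    (H91.sat_receptive' hS hF hfn) le_rfl
  have hm := mul_mem (mul_mem hn x2) (inv_mem hn)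
  have : a * g⁻¹ ∈ nm Z := mem_nm_of_conj fun z hz => by
    rw [← H91.efn_cjAut E _ hn (ZE E hE hz), ← ef z (ZE E hE hz)]
    refine big _ f (left_lt_sup.2 fun c => x3 (c (H91.mem_extSub_of_conj_mem ⟨x1.1, x2⟩ ?_))) hf z hz
    rw [← H93.cjAut_inv E hn, ← H93.cjAut_mul E hn x2, ← H93.cjAut_mul E (mul_mem hn x2) (inv_mem hn),
      fus_mem_autS hm]
    refine (sup_le_sup_left inf_le_left _ : S ⊓ nm E ⊔ ce E ⊓ nm E ≤ _) ?_
    convert e (conj_mem_cj a (mem_zpowers _)) using 1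
    simp [mul_assoc]
  simpa using inv_mem (mul_mem (inv_mem a2) this)


end Cfsg.Agent.EX
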