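import Cfsg.Agent.EX.Defs
import Cfsg.Agent.SR3.Sp

/-! Project EX: the relations determine the group. -/

set_option autoImplicit false

namespace Cfsg.Agent.EX

open Subgroup Cfsg.Agent.SR3
open scoped commutatorElement

universe u

variable {G : Type u} [Group G] [Finite G] {H : Type} [Group H] [Finite H] {p : ℕ}
  [hp : Fact p.Prime] {δ : ℤ} {S : Subgroup G}

section aux

variable {K : Type*} [Group K] [Finite K]

theorem card_ins {s : Set K} {y : K} (h1 : ∀ x ∈ s, ⁅y, x⁆ ∈ closure s) (h2 : y ^ p = 1)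
    (h3 : y ∉ closure s) : Nat.card (closure (insert y s)) = p * Nat.card (closure s) := by
  rw [Set.insert_eq, Subgroup.closure_union, sup_comm, ← zpowers_eq_closure]
  exact card_sup_zpowers (SpAux.nm_of_gen rfl h1) (h2 ▸ one_mem _) h3

theorem not_mem_cl {s : Set K} {y : K} (t : K) (h : ∀ x ∈ s, ⁅x, t⁆ = 1) (hy : ⁅y, t⁆ ≠ 1) :
    y ∉ closure s := fun e => hy (mem_St_one.1
  ((closure_le (St {t} ⊥)).2 (fun x hx => mem_St_one.2 ⟨nm_bot, h x hx⟩) e)).2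

theorem not_mem_cl' {s : Set K} {y : K} (z t : K) (h : ∀ x ∈ s, ⁅x, z⁆ = 1 ∧ ⁅x, t⁆ ∈ closure {z})
    (hy : ⁅y, t⁆ ∉ closure {z}) : y ∉ closure s := fun e => hy (mem_St_one.1
  ((closure_le (St {t} _)).2 (fun x hx => mem_St_one.2 ⟨SpAux.nm_of_gen rfl
    (by simp [(h x hx).1]), (h x hx).2⟩) e)).2

omit hp [Finite K] in
theorem mem_cl {s : Set K} {y : K} (h : y ∈ s) : (y ∈ closure s) = True :=
  eq_true (subset_closure h)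

theorem RelO.card {e w₁ w₂ f₁ f₂ z : K} (hδ : ¬ (p : ℤ) ∣ δ) (h : RelO p δ e w₁ w₂ f₁ f₂ z) :
    Nat.card (gen6 e w₁ w₂ f₁ f₂ z) = p ^ 6 := by
  have n : z ^ δ ≠ 1 := fun c =>
    hδ (dvd_of_zpow_mem (Y := ⊥) h.pz h.ne c)
  have sw : ∀ {a b c : K}, ⁅a, b⁆ = c → ⁅b, a⁆ = c⁻¹ := fun e => e ▸ (commutatorElement_inv _ _).symm
  have n1 : f₁ ∉ closure {f₂, z} :=
    not_mem_cl w₁ (by simp [sw h.b12, sw h.w1z]) (by simp [sw h.b11, h.ne])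
  rw [gen6, card_ins (by simp [sw h.e1, sw h.e2, h.ef1, h.ef2, h.ez, mem_cl]) h.pe
      (not_mem_cl' z w₁ (by simp [h.w1z, h.w2z, h.f1z, h.f2z, sw h.ww, sw h.b11, sw h.b12, sw h.w1z,
        mem_cl]) (by rw [sw h.e1, inv_mem_iff]; exact fun c => n1 (closure_mono (by simp) c))),
    card_ins (by simp [h.ww, h.b11, h.b12, h.w1z, mem_cl]) h.p1
      (not_mem_cl f₁ (by simp [h.b21, sw h.ff, sw h.f1z]) (h.b11 ▸ h.ne)),
    card_ins (by simp [h.b21, h.b22, h.w2z, mem_cl, zpow_mem]) h.p2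
      (not_mem_cl f₂ (by simp [h.ff, sw h.f2z]) (h.b22 ▸ n)),
    card_ins (by simp [h.ff, h.f1z]) h.q1 n1, card_ins (by simp [h.f2z]) h.q2
      (not_mem_cl w₂ (by simp [sw h.w2z]) (by simp [sw h.b22, n])), ← zpowers_eq_closure,
    card_zpowers_eq h.pz h.ne]
  ring

omit hp [Finite K] in
theorem mul_pow_z (ho : Odd p) {x y z : K} (h : ⁅y, x⁆ ∈ zpowers z) (h1 : ⁅x, z⁆ = 1)
    (h2 : ⁅y, z⁆ = 1) (h3 : z ^ p = 1) : (x * y) ^ p = x ^ p * y ^ p := by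
  obtain ⟨k, hk⟩ := h
  rw [commutatorElement_eq_one_iff_commute] at h1 h2
  refine H3.mul_pow_of_odd_of_commute_commutator (hk ▸ h1.zpow_right k) (hk ▸ h2.zpow_right k) ho ?_
  rw [← hk, ← zpow_natCast, ← zpow_mul, mul_comm, zpow_mul, zpow_natCast, h3, one_zpow]

omit hp [Finite K] in
theorem RelG.pows (ho : Odd p) {a b₁ b₂ b₃ b₄ z : K} (h : RelG p a b₁ b₂ b₃ b₄ z) :
    b₂ ^ p = 1 ∧ b₃ ^ p = 1 ∧ b₄ ^ p = 1 := by
  have st : ∀ {x y}, ⁅a, x⁆ = y → ⁅x, y⁆ ∈ zpowers z → ⁅x, z⁆ = 1 → ⁅y, z⁆ = 1 → x ^ p = 1 →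
      y ^ p = 1 := fun {x y} e h1 h2 h3 h4 => by
    have := mul_pow_z ho h1 h3 h2 h.pz
    rwa [h4, mul_one, ← e, ← conj_eq_comm, conj_pow, h4, mul_one, mul_inv_cancel, e, eq_comm] at this
  have p2 := st h.a1 h.b12 h.z1 h.z2 h.p1
  have p3 := st h.a2 (by simp [h.b23]) h.z2 h.z3 p2
  exact ⟨p2, p3, st h.a3 (by simp [h.b34]) h.z3 h.z4 p3⟩

theorem RelG.card (ho : Odd p) {a b₁ b₂ b₃ b₄ z : K} (h : RelG p a b₁ b₂ b₃ b₄ z) :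
    Nat.card (gen6 a b₁ b₂ b₃ b₄ z) = p ^ 6 := by
  obtain ⟨p2, p3, p4⟩ := h.pows ho
  obtain ⟨k, hk⟩ := h.b12
  replace hk : ⁅b₁, b₂⁆ = z ^ k := hk.symm
  have sw : ∀ {a b c : K}, ⁅a, b⁆ = c → ⁅b, a⁆ = c⁻¹ := fun e => e ▸ (commutatorElement_inv _ _).symm
  have n1 : b₄ ∉ closure {z} := not_mem_cl b₁ (by simp [sw h.z1]) (by simp [sw h.b14, h.ne])
  rw [gen6, card_ins (by simp [h.a1, h.a2, h.a3, h.a4, h.az, mem_cl]) h.pa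
      (not_mem_cl' z b₃ (by simp [h.z1, h.z2, h.z3, h.z4, h.b13, h.b23, sw h.b34, sw h.z3, mem_cl])
        (h.a3 ▸ n1)),
    card_ins (by simp [hk, h.b13, h.b14, h.z1, mem_cl, zpow_mem]) h.p1
      (not_mem_cl b₄ (by simp [h.b24, h.b34, sw h.z4]) (h.b14 ▸ h.ne)),
    card_ins (by simp [h.b23, h.b24, h.z2, mem_cl]) p2
      (not_mem_cl b₃ (by simp [sw h.b34, sw h.z3]) (by simp [h.b23, h.ne])),
    card_ins (by simp [h.b34, h.z3]) p3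
      (not_mem_cl b₂ (by simp [sw h.b24, sw h.z2]) (by simp [sw h.b23, h.ne])),
    card_ins (by simp [h.z4]) p4 n1, ← zpowers_eq_closure, card_zpowers_eq h.pz h.ne]
  ring

omit hp [Finite K] in
theorem RelG.step (ho : Odd p) {a b₁ b₂ b₃ b₄ z : K} (h : RelG p a b₁ b₂ b₃ b₄ z) :
    RelG p a (b₁ * b₃) (b₂ * (z * b₄)) b₃ b₄ z ∧
      ⁅b₁ * b₃, b₂ * (z * b₄)⁆ = ⁅b₁, b₂⁆ * z ^ 2 := by
  have sw : ∀ {a b c : K}, ⁅a, b⁆ = c → ⁅b, a⁆ = c⁻¹ := fun e => e ▸ (commutatorElement_inv _ _).symm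
  have c1 := (commutatorElement_eq_one_iff_commute.1 h.z1).mul_inv_cancel
  have c2 := (commutatorElement_eq_one_iff_commute.1 h.z2).mul_inv_cancel
  obtain ⟨k, hk⟩ := h.b12
  replace hk : ⁅b₁, b₂⁆ = z ^ k := hk.symm
  have e : ⁅b₁ * b₃, b₂ * (z * b₄)⁆ = ⁅b₁, b₂⁆ * z ^ 2 := by
    simp only [comm_mul_left, comm_mul_right, sw h.b23, h.z1, h.z3, h.b34, h.b14, inv_inv, one_mul,
      mul_one, mul_inv_cancel, c1, c2, hk, mul_inv_cancel_right]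
    group
  refine ⟨⟨h.pa, ?_, h.pz, ?_, ?_, h.a3, h.a4, h.az, ?_, ?_, ?_, ?_, ?_, h.b34, ?_, ?_, h.z3, h.z4,
    h.ne⟩, e⟩
  · rw [mul_pow_z ho (by simp [sw h.b13]) h.z1 h.z3 h.pz, h.p1, (h.pows ho).2.1, one_mul]
  · rw [comm_mul_right, h.a1, h.a3, conj_eq_comm, h.b14]
  · simp [comm_mul_right, h.a2, h.az, h.a4]
  · rw [e, hk]; exact mul_mem (zpow_mem_zpowers _ _) (npow_mem_zpowers _ _)
  · simp [comm_mul_left, h.b13]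
  · simp [comm_mul_left, h.b14, h.b34]
  · simp [comm_mul_left, h.b23, sw h.b34, sw h.z3]
  · simp [comm_mul_left, h.b24, sw h.z4]
  · simp [comm_mul_left, h.z1, h.z3]
  · simp [comm_mul_left, h.z2, h.z4]

omit [Finite K] in
theorem RelG.norm (ho : Odd p) {a b₁ b₂ b₃ b₄ z : K} (h : RelG p a b₁ b₂ b₃ b₄ z) :
    ∃ c₁ c₂, RelG p a c₁ c₂ b₃ b₄ z ∧ ⁅c₁, c₂⁆ = 1 ∧
      gen6 a c₁ c₂ b₃ b₄ z ≤ gen6 a b₁ b₂ b₃ b₄ z := by
  have key : ∀ d : ℕ, ∃ c₁ c₂, RelG p a c₁ c₂ b₃ b₄ z ∧ ⁅c₁, c₂⁆ = ⁅b₁, b₂⁆ * z ^ (2 * d) ∧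
      gen6 a c₁ c₂ b₃ b₄ z ≤ gen6 a b₁ b₂ b₃ b₄ z := fun d => by
    induction d with
    | zero => exact ⟨_, _, h, by simp, le_rfl⟩
    | succ d ih =>
      obtain ⟨c₁, c₂, r, e, l⟩ := ih
      refine ⟨_, _, (r.step ho).1, by rw [(r.step ho).2, e, mul_add, pow_add, mul_assoc],
        le_trans ((closure_le _).2 ?_) l⟩
      simp [Set.insert_subset_iff, gen6, mem_cl, mul_mem_cancel_left]
  obtain ⟨n, hn⟩ := (isOfFinOrder_iff_pow_eq_one.2 ⟨p, hp.out.pos, h.pz⟩).mem_powers_iff_mem_zpowers.2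
    (inv_mem h.b12)
  obtain ⟨m, hm⟩ := ho
  obtain ⟨c₁, c₂, r, e, l⟩ := key ((m + 1) * n)
  refine ⟨_, _, r, ?_, l⟩
  rw [e, show 2 * ((m + 1) * n) = p * n + n by rw [hm]; ring, pow_add, pow_mul, h.pz, one_pow, one_mul,
    show z ^ n = _ from hn, mul_inv_cancel]

end aux

theorem iso_of {a b c d e f : G} {a' b' c' d' e' f' : H}
    (c0 : Nat.card (gen6 (a, a') (b, b') (c, c') (d, d') (e, e') (f, f')) = p ^ 6)
    (c1 : Nat.card (gen6 a b c d e f) = p ^ 6) (c2 : Nat.card (gen6 a' b' c' d' e' f') = p ^ 6)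
    (h1 : gen6 a b c d e f ≤ S) (h2 : Nat.card S = p ^ 6) (h3 : ¬ p ^ 7 ∣ Nat.card H) :
    ∃ P : Sylow p H, Nonempty (S ≃* (P : Subgroup H)) := by
  refine ⟨(IsPGroup.of_card c2).toSylow fun e => h3 (by
    rw [← card_mul_index, c2, pow_succ]; exact Nat.mul_dvd_mul_left _ e), ?_⟩
  rw [← H91.eq_of_le_of_card_le h1 (h2.trans c1.symm).le, IsPGroup.toSylow_coe]
  have m1 : (gen6 (a, a') (b, b') (c, c') (d, d') (e, e') (f, f')).map (MonoidHom.fst G H) =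
    gen6 a b c d e f := by simp [gen6, MonoidHom.map_closure, Set.image_insert_eq]
  have m2 : (gen6 (a, a') (b, b') (c, c') (d, d') (e, e') (f, f')).map (MonoidHom.snd G H) =
    gen6 a' b' c' d' e' f' := by simp [gen6, MonoidHom.map_closure, Set.image_insert_eq]
  rw [← m1] at c1 ⊢
  rw [← m2] at c2 ⊢
  exact ⟨(MulEquiv.ofBijective _ ((MonoidHom.subgroupMap_surjective _ _).bijective_of_nat_card_le
    (c0.trans c1.symm).le)).symm.trans (MulEquiv.ofBijective _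
    ((MonoidHom.subgroupMap_surjective _ _).bijective_of_nat_card_le (c0.trans c2.symm).le))⟩

theorem isoO {e w₁ w₂ f₁ f₂ z : G} {e' w₁' w₂' f₁' f₂' z' : H} (hδ : ¬ (p : ℤ) ∣ δ)
    (h : RelO p δ e w₁ w₂ f₁ f₂ z) (h' : RelO p δ e' w₁' w₂' f₁' f₂' z')
    (h1 : gen6 e w₁ w₂ f₁ f₂ z ≤ S) (h2 : Nat.card S = p ^ 6) (h3 : ¬ p ^ 7 ∣ Nat.card H) :
    ∃ P : Sylow p H, Nonempty (S ≃* (P : Subgroup H)) := iso_of (RelO.card hδ ⟨Prod.ext h.pe h'.pe, Prod.ext h.p1 h'.p1, Prod.ext h.p2 h'.p2,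
    Prod.ext h.q1 h'.q1, Prod.ext h.q2 h'.q2, Prod.ext h.pz h'.pz, Prod.ext h.e1 h'.e1,
    Prod.ext h.e2 h'.e2, Prod.ext h.ww h'.ww, Prod.ext h.b11 h'.b11, Prod.ext h.b12 h'.b12,
    Prod.ext h.b21 h'.b21, Prod.ext h.b22 h'.b22, Prod.ext h.ef1 h'.ef1, Prod.ext h.ef2 h'.ef2,
    Prod.ext h.ff h'.ff, Prod.ext h.ez h'.ez, Prod.ext h.w1z h'.w1z, Prod.ext h.w2z h'.w2z,
    Prod.ext h.f1z h'.f1z, Prod.ext h.f2z h'.f2z, fun c => h.ne (congrArg Prod.fst c)⟩)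
    (h.card hδ) (h'.card hδ) h1 h2 h3


theorem isoG {a b₁ b₂ b₃ b₄ z : G} {a' b₁' b₂' b₃' b₄' z' : H} (ho : Odd p)
    (h : RelG p a b₁ b₂ b₃ b₄ z) (h' : RelG p a' b₁' b₂' b₃' b₄' z')
    (h1 : gen6 a b₁ b₂ b₃ b₄ z ≤ S) (h2 : Nat.card S = p ^ 6) (h3 : ¬ p ^ 7 ∣ Nat.card H) :
    ∃ P : Sylow p H, Nonempty (S ≃* (P : Subgroup H)) := by
  obtain ⟨c₁, c₂, r, e, l⟩ := h.norm ho
  obtain ⟨c₁', c₂', r', e', -⟩ := h'.norm ho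
  exact iso_of (RelG.card ho ⟨Prod.ext r.pa r'.pa, Prod.ext r.p1 r'.p1, Prod.ext r.pz r'.pz,
    Prod.ext r.a1 r'.a1, Prod.ext r.a2 r'.a2, Prod.ext r.a3 r'.a3, Prod.ext r.a4 r'.a4,
    Prod.ext r.az r'.az, ⟨0, (Prod.ext e e' : ⁅(c₁, c₁'), (c₂, c₂')⁆ = 1).symm ▸ zpow_zero _⟩,
    Prod.ext r.b13 r'.b13, Prod.ext r.b14 r'.b14, Prod.ext r.b23 r'.b23, Prod.ext r.b24 r'.b24,
    Prod.ext r.b34 r'.b34, Prod.ext r.z1 r'.z1, Prod.ext r.z2 r'.z2, Prod.ext r.z3 r'.z3,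
    Prod.ext r.z4 r'.z4, fun c => r.ne (congrArg Prod.fst c)⟩) (r.card ho) (r'.card ho)
    (l.trans h1) h2 h3


end Cfsg.Agent.EX
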