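import Cfsg.Agent.EX.ModG
import Cfsg.Agent.H10.Conj
import Cfsg.Agent.S0278

/-! Project EX: the three models. -/

set_option autoImplicit false

namespace Cfsg.Agent.EX

open Subgroup Cfsg.Agent.SR3
open scoped commutatorElement

universe u

namespace ModAux

open Matrix

theorem relO_map {G H : Type*} [Group G] [Group H] {p : ℕ} {δ : ℤ} {e w₁ w₂ f₁ f₂ z : G} (φ : G →* H)
    (hφ : Function.Injective φ) (h : RelO p δ e w₁ w₂ f₁ f₂ z) :
    RelO p δ (φ e) (φ w₁) (φ w₂) (φ f₁) (φ f₂) (φ z) := by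
  have c : ∀ {a b c : G}, ⁅a, b⁆ = c → ⁅φ a, φ b⁆ = φ c := fun e => by rw [← map_commutatorElement, e]
  have c1 : ∀ {a b : G}, ⁅a, b⁆ = 1 → ⁅φ a, φ b⁆ = 1 := fun e => by rw [c e, map_one]
  have q : ∀ {a : G}, a ^ p = 1 → φ a ^ p = 1 := fun e => by rw [← map_pow, e, map_one]
  exact ⟨q h.pe, q h.p1, q h.p2, q h.q1, q h.q2, q h.pz, c h.e1, c h.e2, c1 h.ww, c h.b11, c1 h.b12, c1 h.b21,
    (c h.b22).trans (map_zpow _ _ _), c1 h.ef1, c1 h.ef2, c1 h.ff, c1 h.ez, c1 h.w1z, c1 h.w2z, c1 h.f1z,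
    c1 h.f2z, fun e => h.ne (hφ (e.trans (map_one φ).symm))⟩

theorem relO_lift {G : Type*} [Group G] {p : ℕ} {δ : ℤ} {e w₁ w₂ f₁ f₂ z : G} {K : Subgroup G}
    (h : RelO p δ e w₁ w₂ f₁ f₂ z) (he : e ∈ K) (h1 : w₁ ∈ K) (h2 : w₂ ∈ K) :
    ∃ e w₁ w₂ f₁ f₂ z : K, RelO p δ e w₁ w₂ f₁ f₂ z := by
  have m1 : f₁ ∈ K := h.e1 ▸ comm_mem h1 he
  have m2 : f₂ ∈ K := h.e2 ▸ comm_mem h2 he
  have mz : z ∈ K := h.b11 ▸ comm_mem h1 m1
  exact ⟨⟨e, he⟩, ⟨w₁, h1⟩, ⟨w₂, h2⟩, ⟨f₁, m1⟩, ⟨f₂, m2⟩, ⟨z, mz⟩, Subtype.ext h.pe, Subtype.ext h.p1,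
    Subtype.ext h.p2, Subtype.ext h.q1, Subtype.ext h.q2, Subtype.ext h.pz, Subtype.ext h.e1, Subtype.ext h.e2,
    Subtype.ext h.ww, Subtype.ext h.b11, Subtype.ext h.b12, Subtype.ext h.b21, Subtype.ext h.b22,
    Subtype.ext h.ef1, Subtype.ext h.ef2, Subtype.ext h.ff, Subtype.ext h.ez, Subtype.ext h.w1z,
    Subtype.ext h.w2z, Subtype.ext h.f1z, Subtype.ext h.f2z, fun e => h.ne (congrArg Subtype.val e)⟩

variable {F : Type*} [Field F]

/-- Upper unitriangular matrices of degree four. -/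
def ut (a b c d e f : F) : SpecialLinearGroup (Fin 4) F :=
  ⟨!![1, a, d, f; 0, 1, b, e; 0, 0, 1, c; 0, 0, 0, 1], by
    simp [det_succ_row_zero, Fin.sum_univ_succ, Fin.succAbove]⟩

theorem ut_val (a b c d e f : F) : (ut a b c d e f).1 = !![1, a, d, f; 0, 1, b, e; 0, 0, 1, c; 0, 0, 0, 1] := rfl

theorem ut_mul (a b c d e f a' b' c' d' e' f' : F) : ut a b c d e f * ut a' b' c' d' e' f' =
    ut (a + a') (b + b') (c + c') (d + d' + a * b') (e + e' + b * c') (f + f' + a * e' + d * c') := by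
  apply Subtype.ext
  change (ut a b c d e f).1 * (ut a' b' c' d' e' f').1 = _
  ext i j
  fin_cases i <;> fin_cases j <;> simp [ut_val, Matrix.mul_apply, Fin.sum_univ_four] <;> ring

theorem ut_zero : ut (0 : F) 0 0 0 0 0 = 1 := by
  apply Subtype.ext
  ext i j
  fin_cases i <;> fin_cases j <;> rfl

theorem ut_congr {a b c d e f a' b' c' d' e' f' : F} (h1 : a = a') (h2 : b = b') (h3 : c = c') (h4 : d = d')
    (h5 : e = e') (h6 : f = f') : ut a b c d e f = ut a' b' c' d' e' f' := by rw [h1, h2, h3, h4, h5, h6]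

theorem ut_npow {a b c d e f : F} (h1 : a * b = 0) (h2 : b * c = 0) (h3 : a * e + d * c = 0) (n : ℕ) :
    ut a b c d e f ^ n = ut (n * a) (n * b) (n * c) (n * d) (n * e) (n * f) := by
  induction n with
  | zero => simp [ut_zero]
  | succ n ih =>
    rw [pow_succ, ih, ut_mul]
    push_cast
    apply ut_congr
    · ring
    · ring
    · ring
    · linear_combination (n : F) * h1
    · linear_combination (n : F) * h2
    · linear_combination (n : F) * h3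

theorem ut_pow {p : ℕ} [CharP F p] {a b c d e f : F} (h1 : a * b = 0) (h2 : b * c = 0) (h3 : a * e + d * c = 0) :
    ut a b c d e f ^ p = 1 := by
  rw [ut_npow h1 h2 h3, CharP.cast_eq_zero]
  simp [ut_zero]

theorem ut_zpow (f : F) (n : ℤ) : ut 0 0 0 0 0 f ^ n = ut 0 0 0 0 0 (n * f) := by
  have h := ut_npow (a := 0) (b := 0) (c := 0) (d := 0) (e := 0) (f := f) (by simp) (by simp) (by simp)
  obtain ⟨m, rfl | rfl⟩ := n.eq_nat_or_neg
  · rw [zpow_natCast, h]; simp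
  · rw [_root_.zpow_neg, zpow_natCast, h, inv_eq_iff_mul_eq_one, ut_mul]
    simp [ut_zero]

theorem ut_comm {a b c d e f a' b' c' d' e' f' g h k : F} (h1 : a * b' = g + a' * b) (h2 : b * c' = h + b' * c)
    (h3 : a * e' + d * c' = k + a' * e + d' * c + g * (c' + c)) :
    ⁅ut a b c d e f, ut a' b' c' d' e' f'⁆ = ut 0 0 0 g h k := by
  apply comm_of_mul
  rw [ut_mul, ut_mul, ut_mul]
  apply ut_congr
  · ring
  · ring
  · ring
  · linear_combination h1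
  · linear_combination h2
  · linear_combination h3

theorem ut_comm1 {a b c d e f a' b' c' d' e' f' : F} (h1 : a * b' = a' * b) (h2 : b * c' = b' * c)
    (h3 : a * e' + d * c' = a' * e + d' * c) : ⁅ut a b c d e f, ut a' b' c' d' e' f'⁆ = 1 := by
  rw [← ut_zero]
  apply ut_comm
  · linear_combination h1
  · linear_combination h2
  · linear_combination h3

theorem rel_ut {p : ℕ} [CharP F p] {δ : ℤ} (h2 : (2 : F) ≠ 0) {b c : F} (hb : b ≠ 0) (hc : c * c = -δ) :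
    RelO p δ (ut 0 b 0 0 0 0) (ut 1 0 (-1) 0 0 0) (ut c 0 c 0 0 0) (ut 0 0 0 b b b)
      (ut 0 0 0 (c * b) (-(c * b)) (-(c * b * c))) (ut 0 0 0 0 0 (2 * b)) := by
  refine ⟨?_, ?_, ?_, ?_, ?_, ?_, ?_, ?_, ?_, ?_, ?_, ?_, ?_, ?_, ?_, ?_, ?_, ?_, ?_, ?_, ?_, fun e => ?_⟩
  iterate 6 (apply ut_pow <;> ring)
  · apply ut_comm <;> ring
  · apply ut_comm <;> ring
  · apply ut_comm1 <;> ring
  · apply ut_comm <;> ring
  · apply ut_comm1 <;> ring
  · apply ut_comm1 <;> ring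
  · rw [ut_zpow]
    apply ut_comm
    · ring
    · ring
    · linear_combination (-2 * b) * hc
  iterate 8 (apply ut_comm1 <;> ring)
  have := congrArg (fun x : SpecialLinearGroup (Fin 4) F => x.1 0 3) e
  exact mul_ne_zero h2 hb this

theorem two_ne {p : ℕ} [hp : Fact p.Prime] [CharP F p] (ho : Odd p) : (2 : F) ≠ 0 := by
  intro h
  have h1 : p ∣ 2 := (CharP.cast_eq_zero_iff F p 2).1 (by exact_mod_cast h)
  rw [(Nat.prime_dvd_prime_iff_eq hp.out Nat.prime_two).1 h1] at ho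
  exact absurd ho (by decide)

section U
variable {K : Type} [Field K] [Fintype K] {q : ℕ} [hK : Fact (Fintype.card K = q ^ 2)]

/-- The change of basis to a hyperbolic frame. -/
def bas (c c' t : K) (h : c * c' = 1) (ht : 2 * t = 1) : SpecialLinearGroup (Fin 4) K :=
  ⟨!![1, 0, 0, t; 0, 1, t, 0; 0, c', -(c' * t), 0; c, 0, 0, -(c * t)], by
    simp [det_succ_row_zero, Fin.sum_univ_succ, Fin.succAbove]
    linear_combination (4 * t * t) * h + (2 * t + 1) * ht⟩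

theorem herm_bas {c c' t : K} (h : c * c' = 1) (ht : 2 * t = 1) (hc : H10.cj K q c = -c') (u v : Fin 4 → K) :
    hermForm 4 K q ((bas c c' t h ht).1 *ᵥ u) ((bas c c' t h ht).1 *ᵥ v) =
      u 0 * H10.cj K q (v 3) + u 1 * H10.cj K q (v 2) + u 2 * H10.cj K q (v 1) + u 3 * H10.cj K q (v 0) := by
  have hc' : H10.cj K q c' = -c := by
    have := congrArg (H10.cj K q) hc
    rw [H10.cj_cj, map_neg] at this
    rw [this, neg_neg]
  have ht' : H10.cj K q t = t := by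
    have := congrArg (H10.cj K q) ht
    rw [map_mul, map_one, map_ofNat] at this
    linear_combination t * this - H10.cj K q t * ht
  simp only [hermForm, ← H10.cj_apply, Fin.sum_univ_four]
  simp [bas, mulVec, dotProduct, Fin.sum_univ_four, hc, hc', ht']
  linear_combination (-((u 1 - t * u 2) * (H10.cj K q (v 1) - t * H10.cj K q (v 2)) +
    (u 0 - t * u 3) * (H10.cj K q (v 0) - t * H10.cj K q (v 3)))) * h +
    (u 0 * H10.cj K q (v 3) + u 3 * H10.cj K q (v 0) + u 1 * H10.cj K q (v 2) + u 2 * H10.cj K q (v 1)) * ht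

theorem mem_SU {c c' t : K} (h : c * c' = 1) (ht : 2 * t = 1) (hc : H10.cj K q c = -c')
    {y : SpecialLinearGroup (Fin 4) K}
    (hy : ∀ u v : Fin 4 → K, (y.1 *ᵥ u) 0 * H10.cj K q ((y.1 *ᵥ v) 3) + (y.1 *ᵥ u) 1 * H10.cj K q ((y.1 *ᵥ v) 2) +
      (y.1 *ᵥ u) 2 * H10.cj K q ((y.1 *ᵥ v) 1) + (y.1 *ᵥ u) 3 * H10.cj K q ((y.1 *ᵥ v) 0) =
      u 0 * H10.cj K q (v 3) + u 1 * H10.cj K q (v 2) + u 2 * H10.cj K q (v 1) + u 3 * H10.cj K q (v 0)) :
    (MulAut.conj (bas c c' t h ht)).toMonoidHom y ∈ Cfsg.SU 4 K q := by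
  intro u v
  set P := bas c c' t h ht with hP
  have e : ∀ w : Fin 4 → K, P.1 *ᵥ ((P⁻¹).1 *ᵥ w) = w := fun w => by
    have e1 : P.1 * (P⁻¹).1 = 1 := congrArg Subtype.val (mul_inv_cancel P)
    rw [mulVec_mulVec, e1, one_mulVec]
  change hermForm 4 K q ((P.1 * y.1 * (P⁻¹).1) *ᵥ u) ((P.1 * y.1 * (P⁻¹).1) *ᵥ v) = _
  rw [← mulVec_mulVec, ← mulVec_mulVec, ← mulVec_mulVec, ← mulVec_mulVec, herm_bas h ht hc, hy,
    ← herm_bas h ht hc, e, e]

theorem mem_ut {c c' t : K} (h : c * c' = 1) (ht : 2 * t = 1) (hc : H10.cj K q c = -c') {a b d : K}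
    (h1 : H10.cj K q a = -d) (h2 : H10.cj K q b = -b) (h3 : a * b = 0) :
    (MulAut.conj (bas c c' t h ht)).toMonoidHom (ut a b d 0 0 0) ∈ Cfsg.SU 4 K q := by
  have h1' : H10.cj K q d = -a := by
    have := congrArg (H10.cj K q) h1
    rw [H10.cj_cj, map_neg] at this
    rw [this, neg_neg]
  have h4 : d * b = 0 := by
    have := congrArg (H10.cj K q) h3
    rw [map_mul, h1, h2, map_zero] at this
    linear_combination this
  apply mem_SU h ht hc
  intro u v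
  simp [ut_val, mulVec, dotProduct, Fin.sum_univ_four, h1, h1', h2]
  linear_combination (-(u 2 * H10.cj K q (v 3))) * h3 + (-(u 3 * H10.cj K q (v 2))) * h4

end U

end ModAux

open ModAux

variable {p : ℕ} [hp : Fact p.Prime] {δ : ℤ}

theorem modL (ho : Odd p) (h : IsSquare (-δ : ZMod p)) (hδ : ¬ (p : ℤ) ∣ δ) :
    (∃ e w₁ w₂ f₁ f₂ z : Matrix.SpecialLinearGroup (Fin 4) (ZMod p), RelO p δ e w₁ w₂ f₁ f₂ z) ∧
      ¬ p ^ 7 ∣ Nat.card (Matrix.SpecialLinearGroup (Fin 4) (ZMod p)) := by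
  obtain ⟨c, hc⟩ := h
  refine ⟨⟨_, _, _, _, _, _, rel_ut (two_ne ho) one_ne_zero hc.symm⟩, fun h => ?_⟩
  have h1 := H9.card_sl_fin (F := ZMod p) 4 (by omega)
  have h2 := Dvd.dvd.mul_left h (Fintype.card (ZMod p) - 1)
  rw [h1, ZMod.card, Fin.prod_univ_four] at h2
  apply not_pow_dvd 6 (not_dvd_mul (not_dvd_mul (not_dvd_mul (not_dvd_pow_sub (p := p) 3) (not_dvd_pow_sub 2))
    (not_dvd_pow_sub 1)) (not_dvd_pow_sub 0))
  have e1 : p ^ 4 - p ^ 1 = p * (p ^ 3 - 1) := by rw [Nat.mul_sub_one, pow_one, ← pow_succ']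
  have e2 : p ^ 4 - p ^ 2 = p ^ 2 * (p ^ 2 - 1) := by rw [Nat.mul_sub_one, ← pow_add]
  have e3 : p ^ 4 - p ^ 3 = p ^ 3 * (p - 1) := by rw [Nat.mul_sub_one, ← pow_succ]
  change _ ∣ (p ^ 4 - p ^ 0) * (p ^ 4 - p ^ 1) * (p ^ 4 - p ^ 2) * (p ^ 4 - p ^ 3) at h2
  rw [e1, e2, e3, pow_zero] at h2
  refine h2.trans (dvd_of_eq ?_)
  simp only [Nat.reduceAdd, pow_one]
  ring

theorem modU (ho : Odd p) (h : ¬ IsSquare (-δ : ZMod p)) {K : Type} [Field K] [Fintype K]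
    (hK : Fintype.card K = p ^ 2) :
    (∃ e w₁ w₂ f₁ f₂ z : Cfsg.SU 4 K p, RelO p δ e w₁ w₂ f₁ f₂ z) ∧
      ¬ p ^ 7 ∣ Nat.card (Cfsg.SU 4 K p) := by
  classical
  have := Fact.mk hK
  have : CharP K p := charP_of_card_eq_prime_pow hK
  have h2 : (2 : K) ≠ 0 := two_ne ho
  constructor
  · obtain ⟨c, hc⟩ := H10.exists_norm_eq (F := K) (q := p) (t := -1) (by rw [map_neg, map_one])
    obtain ⟨k, hk⟩ := ho
    have d0 : (-δ : ZMod p) ≠ 0 := fun e => h (e ▸ IsSquare.zero)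
    have d1 : (-δ : ZMod p) ^ k = -1 := by
      have e : p / 2 = k := by omega
      rw [← e]
      exact (ZMod.pow_div_two_eq_neg_one_or_one p d0).resolve_left fun e' => h ((ZMod.euler_criterion p d0).2 e')
    have d2 : (-δ : K) ^ k = -1 := by
      have := congrArg (ZMod.castHom (dvd_refl p) K) d1
      simpa using this
    have d3 : (-δ : K) ≠ 0 := fun e => d0 ((ZMod.castHom (dvd_refl p) K).injective (by simpa using e))
    have hr : ringChar K ≠ 2 := fun e => h2 (by exact_mod_cast (ringChar.spec K 2).2 (e ▸ dvd_rfl))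
    obtain ⟨θ, hθ⟩ := (FiniteField.isSquare_iff hr d3).2 (by
      have e : Fintype.card K / 2 = k * (2 * (k + 1)) := by
        have : p ^ 2 = 2 * (k * (2 * (k + 1))) + 1 := by rw [hk]; ring
        omega
      rw [e, pow_mul, d2, pow_mul]; simp)
    have θ0 : θ ≠ 0 := fun e => d3 (by rw [hθ, e, mul_zero])
    have cθ : H10.cj K p θ = -θ := by
      rw [H10.cj_apply]
      nth_rewrite 1 [hk]
      rw [pow_succ, pow_mul, pow_two, ← hθ, d2, neg_one_mul]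
    have k1 : c * -H10.cj K p c = 1 := by rw [mul_neg, hc, neg_neg]
    have k2 : (2 : K) * 2⁻¹ = 1 := mul_inv_cancel₀ h2
    have k3 : H10.cj K p c = -(-H10.cj K p c) := (neg_neg _).symm
    exact relO_lift (relO_map (MulAut.conj (bas c _ _ k1 k2)).toMonoidHom (MulAut.conj _).injective
      (rel_ut h2 θ0 hθ.symm)) (mem_ut k1 k2 k3 (by simp) cθ (by simp))
      (mem_ut k1 k2 k3 (by simp) (by simp) (by simp)) (mem_ut k1 k2 k3 cθ (by simp) (by simp))
  · intro h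
    have h1 := S0278.result hK 4 (by omega)
    have h2 := Dvd.dvd.mul_left h (p + 1)
    rw [h1] at h2
    refine not_pow_dvd 6 (fun e => ?_) h2
    obtain ⟨i, -, hi⟩ := (Nat.Prime.prime hp.out).exists_mem_finset_dvd e
    split_ifs at hi
    · exact not_dvd_pow_add i hi
    · exact not_dvd_pow_sub i hi

theorem modG (h5 : 5 ≤ p) :
    (∃ a b₁ b₂ b₃ b₄ z : Cfsg.Lie.G2 (ZMod p), RelG p a b₁ b₂ b₃ b₄ z) ∧
      ¬ p ^ 7 ∣ Nat.card (Cfsg.Lie.G2 (ZMod p)) := ⟨relG h5, cardG⟩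

end Cfsg.Agent.EX
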