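import Cfsg.Agent.EX.Defs
import Cfsg.Agent.H85.G2Ord

/-! Project EX: the model of type `G₂`. -/

set_option autoImplicit false

namespace Cfsg.Agent.EX.ModAux

open Subgroup Matrix Cfsg.Lie H85
open scoped commutatorElement

theorem comm_of_mul {G : Type*} [Group G] {a b c : G} (h : a * b = c * (b * a)) : ⁅a, b⁆ = c := by
  rw [commutatorElement_def, h]; group

theorem pow_char {n F : Type*} [Fintype n] [DecidableEq n] [Nonempty n] [Field F] {p k : ℕ} [Fact p.Prime] [CharP F p]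
    {M : Matrix n n F} (hk : k ≤ p) (h : (M - 1) ^ k = 0) : M ^ p = 1 := by
  have h1 := sub_pow_char_of_commute p (Commute.one_right M)
  rw [pow_eq_zero_of_le hk h, one_pow] at h1
  exact sub_eq_zero.1 h1.symm

theorem not_dvd_pow_sub {p : ℕ} [hp : Fact p.Prime] (k : ℕ) : ¬ p ∣ p ^ (k + 1) - 1 := fun hd =>
  hp.out.one_lt.ne' (Nat.dvd_one.1
    ((Nat.dvd_sub_iff_right (Nat.one_le_pow _ _ hp.out.pos) (dvd_pow_self p (by omega))).1 hd))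

theorem not_dvd_pow_add {p : ℕ} [hp : Fact p.Prime] (k : ℕ) : ¬ p ∣ p ^ (k + 1) + 1 := fun hd =>
  hp.out.one_lt.ne' (Nat.dvd_one.1 ((Nat.dvd_add_right (dvd_pow_self p (by omega))).1 hd))

theorem not_pow_dvd {p m : ℕ} [hp : Fact p.Prime] (k : ℕ) (hm : ¬ p ∣ m) : ¬ p ^ (k + 1) ∣ p ^ k * m := fun h =>
  hm (Nat.dvd_of_mul_dvd_mul_left (pow_pos hp.out.pos k) (by rwa [← pow_succ]))

theorem not_dvd_mul {p a b : ℕ} [hp : Fact p.Prime] (ha : ¬ p ∣ a) (hb : ¬ p ∣ b) : ¬ p ∣ a * b := fun h =>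
  ((Nat.Prime.dvd_mul hp.out).1 h).elim ha hb

/-- an integral unipotent matrix -/
def gA : GL (Fin 8) ℤ :=
  ⟨!![1, 0, 0, 0, 0, -1, 0, 0;
    0, 1, 0, 0, 0, 0, 0, 0;
    1, 0, 1, 0, 0, -1, 0, -1;
    0, 0, 0, 1, 0, 0, 0, 0;
    0, 0, 0, 1, 1, 0, 0, 0;
    0, 0, 0, 0, 0, 1, 0, 0;
    0, -1, 0, 0, 0, 0, 1, 0;
    0, 0, 0, 0, 0, 1, 0, 1],
   !![1, 0, 0, 0, 0, 1, 0, 0;
    0, 1, 0, 0, 0, 0, 0, 0;
    -1, 0, 1, 0, 0, -1, 0, 1;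
    0, 0, 0, 1, 0, 0, 0, 0;
    0, 0, 0, -1, 1, 0, 0, 0;
    0, 0, 0, 0, 0, 1, 0, 0;
    0, 1, 0, 0, 0, 0, 1, 0;
    0, 0, 0, 0, 0, -1, 0, 1], by decide +kernel, by decide +kernel⟩

/-- an integral unipotent matrix -/
def gB1 : GL (Fin 8) ℤ :=
  ⟨!![1, 0, 0, 0, 0, 0, 0, 0;
    0, 1, 1, 0, 0, 0, 0, 0;
    0, 0, 1, 0, 0, 0, 0, 0;
    0, 0, 0, 1, 0, 0, 0, 0;
    0, 0, 0, 0, 1, 0, 0, 0;
    0, 0, 0, 0, -1, 1, 0, 0;
    0, 0, 0, 0, 0, 0, 1, 0;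
    0, 0, 0, 0, 0, 0, 0, 1],
   !![1, 0, 0, 0, 0, 0, 0, 0;
    0, 1, -1, 0, 0, 0, 0, 0;
    0, 0, 1, 0, 0, 0, 0, 0;
    0, 0, 0, 1, 0, 0, 0, 0;
    0, 0, 0, 0, 1, 0, 0, 0;
    0, 0, 0, 0, 1, 1, 0, 0;
    0, 0, 0, 0, 0, 0, 1, 0;
    0, 0, 0, 0, 0, 0, 0, 1], by decide +kernel, by decide +kernel⟩

/-- an integral unipotent matrix -/
def gB2 : GL (Fin 8) ℤ :=
  ⟨!![1, 0, 0, -1, 1, 0, 0, 0;
    -1, 1, 0, 0, -1, -1, 0, 1;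
    0, 0, 1, -1, 1, 0, 0, 0;
    0, 0, 0, 1, 0, 0, 0, 0;
    0, 0, 0, 0, 1, 0, 0, 0;
    0, 0, 0, 1, 0, 1, 0, 0;
    1, 0, -1, 0, 1, 1, 1, -1;
    0, 0, 0, 1, -1, 0, 0, 1],
   !![1, 0, 0, 1, -1, 0, 0, 0;
    1, 1, 0, 1, -1, 1, 0, -1;
    0, 0, 1, 1, -1, 0, 0, 0;
    0, 0, 0, 1, 0, 0, 0, 0;
    0, 0, 0, 0, 1, 0, 0, 0;
    0, 0, 0, -1, 0, 1, 0, 0;
    -1, 0, 1, 0, 0, -1, 1, 1;
    0, 0, 0, -1, 1, 0, 0, 1], by decide +kernel, by decide +kernel⟩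

/-- an integral unipotent matrix -/
def gB3 : GL (Fin 8) ℤ :=
  ⟨!![1, 0, 0, -2, 0, 0, 0, 0;
    0, 1, 0, 3, 0, -2, 0, 0;
    0, 0, 1, -6, 2, 0, 0, 0;
    0, 0, 0, 1, 0, 0, 0, 0;
    0, 0, 0, 0, 1, 0, 0, 0;
    0, 0, 0, 0, 0, 1, 0, 0;
    2, 0, 0, -4, -3, 6, 1, -2;
    0, 0, 0, 2, 0, 0, 0, 1],
   !![1, 0, 0, 2, 0, 0, 0, 0;
    0, 1, 0, -3, 0, 2, 0, 0;
    0, 0, 1, 6, -2, 0, 0, 0;
    0, 0, 0, 1, 0, 0, 0, 0;
    0, 0, 0, 0, 1, 0, 0, 0;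
    0, 0, 0, 0, 0, 1, 0, 0;
    -2, 0, 0, -4, 3, -6, 1, 2;
    0, 0, 0, -2, 0, 0, 0, 1], by decide +kernel, by decide +kernel⟩

/-- an integral unipotent matrix -/
def gB4 : GL (Fin 8) ℤ :=
  ⟨!![1, 0, 0, 0, 0, 0, 0, 0;
    0, 1, 0, 0, 0, 0, 0, 0;
    0, 0, 1, -6, 0, 0, 0, 0;
    0, 0, 0, 1, 0, 0, 0, 0;
    0, 0, 0, 0, 1, 0, 0, 0;
    0, 0, 0, 0, 0, 1, 0, 0;
    0, 0, 0, 0, 0, 6, 1, 0;
    0, 0, 0, 0, 0, 0, 0, 1],
   !![1, 0, 0, 0, 0, 0, 0, 0;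
    0, 1, 0, 0, 0, 0, 0, 0;
    0, 0, 1, 6, 0, 0, 0, 0;
    0, 0, 0, 1, 0, 0, 0, 0;
    0, 0, 0, 0, 1, 0, 0, 0;
    0, 0, 0, 0, 0, 1, 0, 0;
    0, 0, 0, 0, 0, -6, 1, 0;
    0, 0, 0, 0, 0, 0, 0, 1], by decide +kernel, by decide +kernel⟩

/-- an integral unipotent matrix -/
def gZ : GL (Fin 8) ℤ :=
  ⟨!![1, 0, 0, 0, 0, 0, 0, 0;
    0, 1, 0, -6, 0, 0, 0, 0;
    0, 0, 1, 0, 0, 0, 0, 0;
    0, 0, 0, 1, 0, 0, 0, 0;
    0, 0, 0, 0, 1, 0, 0, 0;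
    0, 0, 0, 0, 0, 1, 0, 0;
    0, 0, 0, 0, 6, 0, 1, 0;
    0, 0, 0, 0, 0, 0, 0, 1],
   !![1, 0, 0, 0, 0, 0, 0, 0;
    0, 1, 0, 6, 0, 0, 0, 0;
    0, 0, 1, 0, 0, 0, 0, 0;
    0, 0, 0, 1, 0, 0, 0, 0;
    0, 0, 0, 0, 1, 0, 0, 0;
    0, 0, 0, 0, 0, 1, 0, 0;
    0, 0, 0, 0, -6, 0, 1, 0;
    0, 0, 0, 0, 0, 0, 0, 1], by decide +kernel, by decide +kernel⟩

/-- an integral unipotent matrix -/
def gY : GL (Fin 8) ℤ :=
  ⟨!![1, 0, 0, 0, 0, 0, 0, 0;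
    0, 1, 0, -1, 0, 0, 0, 0;
    0, 0, 1, 0, 0, 0, 0, 0;
    0, 0, 0, 1, 0, 0, 0, 0;
    0, 0, 0, 0, 1, 0, 0, 0;
    0, 0, 0, 0, 0, 1, 0, 0;
    0, 0, 0, 0, 1, 0, 1, 0;
    0, 0, 0, 0, 0, 0, 0, 1],
   !![1, 0, 0, 0, 0, 0, 0, 0;
    0, 1, 0, 1, 0, 0, 0, 0;
    0, 0, 1, 0, 0, 0, 0, 0;
    0, 0, 0, 1, 0, 0, 0, 0;
    0, 0, 0, 0, 1, 0, 0, 0;
    0, 0, 0, 0, 0, 1, 0, 0;
    0, 0, 0, 0, -1, 0, 1, 0;
    0, 0, 0, 0, 0, 0, 0, 1], by decide +kernel, by decide +kernel⟩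

theorem r_a1 : ⁅gA, gB1⁆ = gB2 := comm_of_mul (Units.ext (by decide +kernel))
theorem r_a2 : ⁅gA, gB2⁆ = gB3 := comm_of_mul (Units.ext (by decide +kernel))
theorem r_a3 : ⁅gA, gB3⁆ = gB4 := comm_of_mul (Units.ext (by decide +kernel))
theorem r_a4 : ⁅gA, gB4⁆ = 1 := comm_of_mul (Units.ext (by decide +kernel))
theorem r_az : ⁅gA, gZ⁆ = 1 := comm_of_mul (Units.ext (by decide +kernel))
theorem r_12 : ⁅gB1, gB2⁆ = gY := comm_of_mul (Units.ext (by decide +kernel))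
theorem r_13 : ⁅gB1, gB3⁆ = gZ := comm_of_mul (Units.ext (by decide +kernel))
theorem r_14 : ⁅gB1, gB4⁆ = gZ := comm_of_mul (Units.ext (by decide +kernel))
theorem r_23 : ⁅gB2, gB3⁆ = gZ⁻¹ := comm_of_mul (Units.ext (by decide +kernel))
theorem r_24 : ⁅gB2, gB4⁆ = 1 := comm_of_mul (Units.ext (by decide +kernel))
theorem r_34 : ⁅gB3, gB4⁆ = 1 := comm_of_mul (Units.ext (by decide +kernel))
theorem r_z1 : ⁅gB1, gZ⁆ = 1 := comm_of_mul (Units.ext (by decide +kernel))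
theorem r_z2 : ⁅gB2, gZ⁆ = 1 := comm_of_mul (Units.ext (by decide +kernel))
theorem r_z3 : ⁅gB3, gZ⁆ = 1 := comm_of_mul (Units.ext (by decide +kernel))
theorem r_z4 : ⁅gB4, gZ⁆ = 1 := comm_of_mul (Units.ext (by decide +kernel))
theorem r_Y2 : (gY * gY).1 = 2 • gY.1 - 1 := by decide +kernel
theorem r_YZ : gZ.1 = 6 • gY.1 - 5 := by decide +kernel
theorem u_A : (gA.1 - 1) * (gA.1 - 1) * (gA.1 - 1) = 0 := by decide +kernel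
theorem u_B : (gB1.1 - 1) * (gB1.1 - 1) * (gB1.1 - 1) = 0 := by decide +kernel
theorem u_Y : (gY.1 - 1) * (gY.1 - 1) * (gY.1 - 1) = 0 := by decide +kernel

theorem r_Y6 : gY ^ 6 = gZ := by
  apply Units.ext
  have h : gY.1 * gY.1 = 2 • gY.1 - 1 := r_Y2
  rw [Units.val_pow_eq_pow_val, r_YZ]
  generalize gY.1 = y at h
  have h2 : (y - 1) * (y - 1) = 0 := by rw [sub_mul, mul_sub, h, two_smul]; noncomm_ring
  have h3 : y ^ 6 - (6 • y - 5) = (y * y * y * y + 2 • (y * y * y) + 3 • (y * y) + 4 • y + 5) * ((y - 1) * (y - 1)) := by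
    noncomm_ring
  rwa [h2, mul_zero, sub_eq_zero] at h3

variable {F : Type*} [Field F]

/-- Reduction of integral matrices. -/
def red (F : Type*) [Field F] : GL (Fin 8) ℤ →* GL (Fin 8) F := GeneralLinearGroup.map (Int.castRingHom F)

theorem red_val (g : GL (Fin 8) ℤ) : (red F g).1 = (Int.castRingHom F).mapMatrix g.1 := rfl

theorem red_pow {p : ℕ} [Fact p.Prime] [CharP F p] (h3 : 3 ≤ p) {g : GL (Fin 8) ℤ}
    (h : (g.1 - 1) * (g.1 - 1) * (g.1 - 1) = 0) : red F g ^ p = 1 := by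
  apply Units.ext
  rw [Units.val_pow_eq_pow_val]
  apply pow_char h3
  have := congrArg (Int.castRingHom F).mapMatrix h
  rw [map_mul, map_mul, map_sub, map_one, map_zero] at this
  rw [pow_three', red_val, this]

theorem red_A (x : Fin 8 → F) : (red F gA).1 *ᵥ x = tLin 0 1 0 x := by
  apply fin8_ext <;> simp [red_val, gA, tLin_apply, mulVec, dotProduct, Fin.sum_univ_eight] <;> ring

theorem red_B (x : Fin 8 → F) :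
    (red F gB1).1 *ᵥ x = ![x 0, x 1 + x 2, x 2, x 3, x 4, x 5 - x 4, x 6, x 7] := by
  apply fin8_ext <;> simp [red_val, gB1, mulVec, dotProduct, Fin.sum_univ_eight] <;> ring

theorem mem_A : red F gA ∈ G2 F := fun x y => by
  change (red F gA).1 *ᵥ _ = zornMul ((red F gA).1 *ᵥ x) ((red F gA).1 *ᵥ y)
  rw [red_A, red_A, red_A]
  exact (tAut (0 : F) 1 0).2 x y

theorem mem_B : red F gB1 ∈ G2 F := fun x y => by
  change (red F gB1).1 *ᵥ _ = zornMul ((red F gB1).1 *ᵥ x) ((red F gB1).1 *ᵥ y)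
  rw [red_B, red_B, red_B]
  apply fin8_ext <;> simp [zorn_eq] <;> ring

theorem comm_mem {G : Type*} [Group G] {K : Subgroup G} {a b : G} (ha : a ∈ K) (hb : b ∈ K) : ⁅a, b⁆ ∈ K :=
  mul_mem (mul_mem (mul_mem ha hb) (inv_mem ha)) (inv_mem hb)

theorem red_comm {a b c : GL (Fin 8) ℤ} (h : ⁅a, b⁆ = c) : ⁅red F a, red F b⁆ = red F c := by
  rw [← map_commutatorElement, h]

theorem red_comm1 {a b : GL (Fin 8) ℤ} (h : ⁅a, b⁆ = 1) : ⁅red F a, red F b⁆ = 1 := by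
  rw [red_comm h, map_one]

variable {p : ℕ} [hp : Fact p.Prime]

theorem relG (h5 : 5 ≤ p) : ∃ a b₁ b₂ b₃ b₄ z : G2 (ZMod p), RelG p a b₁ b₂ b₃ b₄ z := by
  have mA := mem_A (F := ZMod p)
  have m1 := mem_B (F := ZMod p)
  have m2 : red (ZMod p) gB2 ∈ G2 (ZMod p) := red_comm (F := ZMod p) r_a1 ▸ comm_mem mA m1
  have m3 : red (ZMod p) gB3 ∈ G2 (ZMod p) := red_comm (F := ZMod p) r_a2 ▸ comm_mem mA m2
  have m4 : red (ZMod p) gB4 ∈ G2 (ZMod p) := red_comm (F := ZMod p) r_a3 ▸ comm_mem mA m3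
  have mZ : red (ZMod p) gZ ∈ G2 (ZMod p) := red_comm (F := ZMod p) r_14 ▸ comm_mem m1 m4
  have pY : red (ZMod p) gY ^ p = 1 := red_pow (by omega) u_Y
  have eZ : red (ZMod p) gZ = red (ZMod p) gY ^ 6 := by rw [← map_pow, r_Y6]
  have c6 : Nat.Coprime 6 p := by
    have c2 : Nat.Coprime 2 p := (Nat.coprime_primes Nat.prime_two hp.out).2 (by omega)
    have c3 : Nat.Coprime 3 p := (Nat.coprime_primes Nat.prime_three hp.out).2 (by omega)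
    exact Nat.Coprime.mul_left c2 c3
  obtain ⟨k, hk⟩ := exists_pow_eq_self_of_coprime (x := red (ZMod p) gY)
    (Nat.Coprime.coprime_dvd_right (orderOf_dvd_of_pow_eq_one pY) c6)
  refine ⟨⟨_, mA⟩, ⟨_, m1⟩, ⟨_, m2⟩, ⟨_, m3⟩, ⟨_, m4⟩, ⟨_, mZ⟩, Subtype.ext (red_pow (by omega) u_A),
    Subtype.ext (red_pow (by omega) u_B), Subtype.ext ?_, Subtype.ext (red_comm r_a1), Subtype.ext (red_comm r_a2),
    Subtype.ext (red_comm r_a3), Subtype.ext (red_comm1 r_a4), Subtype.ext (red_comm1 r_az),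
    ⟨k, Subtype.ext ?_⟩, Subtype.ext (red_comm r_13), Subtype.ext (red_comm r_14),
    Subtype.ext ((red_comm r_23).trans (map_inv _ _)), Subtype.ext (red_comm1 r_24), Subtype.ext (red_comm1 r_34),
    Subtype.ext (red_comm1 r_z1), Subtype.ext (red_comm1 r_z2), Subtype.ext (red_comm1 r_z3),
    Subtype.ext (red_comm1 r_z4), fun e => ?_⟩
  · change red (ZMod p) gZ ^ p = 1
    rw [eZ, ← pow_mul, mul_comm, pow_mul, pY, one_pow]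
  · change red (ZMod p) gZ ^ (k : ℤ) = ⁅red (ZMod p) gB1, red (ZMod p) gB2⁆
    rw [red_comm r_12, zpow_natCast, eZ, hk]
  · have e1 : (red (ZMod p) gZ).1 1 3 = (1 : Matrix (Fin 8) (Fin 8) (ZMod p)) 1 3 :=
      congrArg (fun g : G2 (ZMod p) => g.1.1 1 3) e
    have e2 : ((6 : ℕ) : ZMod p) = 0 := by simpa [red_val, gZ] using e1
    rw [ZMod.natCast_eq_zero_iff] at e2
    exact hp.out.one_lt.ne' (Nat.Coprime.eq_one_of_dvd c6.symm e2)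

theorem cardG : ¬ p ^ 7 ∣ Nat.card (G2 (ZMod p)) := by
  intro h
  have h1 := H9.card_sl_fin (F := ZMod p) 3 (by omega)
  have h2 := Dvd.dvd.mul_left (h.trans card_G2_dvd) (Fintype.card (ZMod p) - 1)
  rw [← mul_assoc, h1, ZMod.card, Fin.prod_univ_three] at h2
  apply not_pow_dvd 6 (not_dvd_mul (not_dvd_mul (not_dvd_mul (not_dvd_pow_sub (p := p) 2) (not_dvd_pow_sub 1))
    (not_dvd_pow_sub 0)) (not_dvd_pow_add 2))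
  have e1 : p ^ 3 - p ^ 1 = p * (p ^ 2 - 1) := by rw [Nat.mul_sub_one, pow_one, ← pow_succ']
  have e2 : p ^ 3 - p ^ 2 = p ^ 2 * (p - 1) := by rw [Nat.mul_sub_one, ← pow_succ]
  simp only [Fin.val_zero, Fin.val_one, Fin.val_two, pow_zero, e1, e2] at h2
  refine h2.trans (dvd_of_eq ?_)
  simp only [Nat.reduceAdd, pow_one]
  ring

end Cfsg.Agent.EX.ModAux
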