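import Cfsg.Agent.EX.Basic

/-! Project EX: generators and relations. -/

set_option autoImplicit false

namespace Cfsg.Agent.EX

open Subgroup Cfsg.Agent.SR3
open scoped commutatorElement

universe u

variable {G : Type u} [Group G] [Finite G] {p : ℕ} [hp : Fact p.Prime] {S Q Z U : Subgroup G}
  {a : G}

theorem gen6_le {a b c d e f : G} (h1 : a ∈ S) (h2 : b ∈ S) (h3 : c ∈ S) (h4 : d ∈ S) (h5 : e ∈ S)
    (h6 : f ∈ S) : gen6 a b c d e f ≤ S :=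
  (closure_le _).2 (by simp [Set.insert_subset_iff, *])

theorem Xs.card5 (h : Xs p S Q Z) (hc : Nat.card S = p ^ 6) : Nat.card Q = p ^ 5 :=
  Nat.eq_of_mul_eq_mul_left hp.out.pos (by rw [← h.card, hc]; ring)

theorem relO (h : Xs p S Q Z) (h' : HypO p S Q Z U) : ∃ (δ : ℤ) (e w₁ w₂ f₁ f₂ z : G),
    ¬ (p : ℤ) ∣ δ ∧ RelO p δ e w₁ w₂ f₁ f₂ z ∧ gen6 e w₁ w₂ f₁ f₂ z ≤ S := by
  have p1 := hp.out.one_lt
  have cQ := h.card5 h'.card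
  have pQ := h.pg.to_le h.le
  obtain ⟨z₀, z1, z2, z3⟩ := exists_Zo h.pg h'.le h'.norm fun e => by
    have := h'.cU
    rw [e, card_bot] at this
    exact (Nat.one_lt_pow (by norm_num) p1).ne this
  have ZU : Z ≤ U := h.zpow_eq (h.zS.le (Zo_le z3)) z2 ▸ zpowers_le.2 z1
  have cF : Nat.card ↥(U ⊓ Q) = p ^ 3 := Nat.eq_of_mul_eq_mul_left hp.out.pos (by
    rw [← card_eq_inf h.pg h.le h.card.le h'.le h'.nle, h'.cU]; ring)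
  obtain ⟨e, e1, e2⟩ := SetLike.not_le_iff_exists.1 h'.nle
  have eS := h'.le e1
  have F : ∀ {q}, q ∈ Q → ⁅q, e⁆ ∈ U ⊓ Q := fun hq =>
    ⟨comm_mem_of_nm (h'.norm (h.le hq)) e1, comm_symm (comm_mem_of_nm (h.nQ eS) hq)⟩
  have ab : ∀ {x y}, x ∈ U → y ∈ U → ⁅x, y⁆ = 1 := fun hx hy => H91.Q5.comm_of_ce (h'.ab hx) hy
  have cz : ∀ {x z}, x ∈ S → z ∈ Z → ⁅x, z⁆ = 1 := fun hx hz =>
    commutatorElement_eq_one_iff_commute.2 (h.cm hz hx)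
  have sym : ∀ {x y}, x ∈ Q → y ∈ Q → ⁅x, ⁅y, e⁆⁆ = ⁅y, ⁅x, e⁆⁆ := fun {x y} hx hy => by
    have a : ⁅x * y, e⁆ = ⁅y * x, e⁆ := by
      have c := h.comm x hx y hy
      rw [show x * y = ⁅x, y⁆ * (y * x) by simp [commutatorElement_def], comm_mul_left,
        ← (h.cm c (h.le (F (mul_mem hy hx)).2)).eq, mul_inv_cancel_right, ← commutatorElement_inv e ⁅x, y⁆,
        cz eS c, inv_one, mul_one]
    rw [comm_mul_left, comm_mul_left, conj_eq_comm, conj_eq_comm, mul_assoc, mul_assoc,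
      commutatorElement_eq_one_iff_mul_comm.1 (ab (F hx).1 (F hy).1)] at a
    exact mul_right_cancel a
  have nd : ∀ {q}, q ∈ Q → Q ≤ centralizer {⁅q, e⁆} → q ∈ U := fun {q} hq c => by
    refine h'.nd ⟨hq, St_anti h'.le ((h.St_one le_rfl h.nZ eS e2).le ⟨hq, mem_St_one.2
      ⟨h.nZ (h.le hq), h.zQ.le ⟨(F hq).2, fun x hx => (c hx _ rfl).symm⟩⟩⟩).2⟩
  have mc : ∀ {x y : G}, x ∈ centralizer {y} ↔ ⁅x, y⁆ = 1 := by
    simp [mem_centralizer_iff, commutatorElement_eq_one_iff_mul_comm, eq_comm]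
  obtain ⟨w₁, hw₁, n1⟩ : ∃ w ∈ Q, ⁅w, ⁅w, e⁆⁆ ≠ 1 := by_contra fun c => by
    push Not at c
    have l : Q ≤ U ⊓ Q := fun y hy => ⟨nd hy fun x hx => mc.2 (by
      have a := c _ (mul_mem hx hy)
      rw [h.comm_mul_l hx hy (F (mul_mem hx hy)).2, sym hx (mul_mem hx hy), sym hy (mul_mem hx hy),
        h.comm_mul_l hx hy (F hx).2, h.comm_mul_l hx hy (F hy).2, c x hx, c y hy, sym hy hx,
        one_mul, mul_one, ← sq] at a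
      exact (pow_eq_one_iff_of_coprime h.odd.coprime_two_left).1
        ⟨a, h.powZ (h.comm x hx _ (F hy).2)⟩), hy⟩
    have := H91.card_le_of_le l
    rw [cQ, cF, Nat.pow_le_pow_iff_right p1] at this
    omega
  have f1 := F hw₁
  obtain ⟨w₂, ⟨⟨hw₂, a1⟩, a2⟩, n2⟩ := SetLike.not_le_iff_exists.1
    fun l : Q ⊓ centralizer {⁅w₁, e⁆} ⊓ centralizer {w₁} ≤ U ⊓ Q => by
      have c := (h.card_ce le_rfl f1.2).trans (Nat.mul_le_mul_left p (h.card_ce inf_le_left hw₁))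
      rw [cQ, show p ^ 5 = p * (p * p ^ 3) by ring, ← cF] at c
      exact n1 (comm_symm (Y := ⊥) (mc.1 ((H91.eq_of_le_of_card_le l (Nat.le_of_mul_le_mul_left
        (Nat.le_of_mul_le_mul_left c hp.out.pos) hp.out.pos)).ge f1).2))
  have f2 := F hw₂
  have zZ := h.comm _ hw₁ _ f1.2
  have b12 := (sym hw₁ hw₂).trans (mc.1 a1)
  obtain ⟨δ, hδ⟩ := (h.zpow_eq zZ n1).ge (h.comm _ hw₂ _ f2.2)
  refine ⟨δ, e, w₁, w₂, _, _, _, fun ⟨k, hk⟩ => n2 ⟨nd hw₂ ?_, hw₂⟩, ⟨h'.expU _ e1, h'.exp _ hw₁,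
    h'.exp _ hw₂, h'.exp _ f1.2, h'.exp _ f2.2, h.powZ zZ, rfl, rfl, comm_symm (Y := ⊥) (mc.1 a2),
    rfl, b12, mc.1 a1, hδ.symm, ab e1 f1.1, ab e1 f2.1, ab f1.1 f2.1, cz eS zZ, cz (h.le hw₁) zZ,
    cz (h.le hw₂) zZ, cz (h.le f1.2) zZ, cz (h.le f2.2) zZ, n1⟩,
    gen6_le eS (h.le hw₁) (h.le hw₂) (h.le f1.2) (h.le f2.2) (h.ZS zZ)⟩
  have l : ∀ {f}, f ∈ U → w₂ ∈ centralizer {f} → U ⊓ Q ⊔ zpowers w₂ ≤ centralizer {f} :=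
    fun hf a => sup_le (fun x hx => mc.2 (ab hx.1 hf)) (zpowers_le.2 a)
  refine H91.Q5.le_gen pQ (sup_le inf_le_right (zpowers_le.2 hw₂)) ?_ (l f2.1 (mc.2 ?_)) hw₁
    (fun c => n1 (mc.1 (l f1.1 a1 c))) (mc.2 b12)
  · rw [card_sup_zpowers (nm_inf (h'.norm (h.le hw₂)) (le_normalizer hw₂))
      (by rw [h'.exp _ hw₂]; exact one_mem _) n2, cQ, cF]
    exact le_of_eq (by ring)
  · rw [← hδ, hk]
    simp only [zpow_mul, zpow_natCast, h.powZ zZ, one_zpow]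


theorem relG (h : Xs p S Q Z) (h' : HypG p S Q Z a) : 5 ≤ p ∧ ∃ b₁ b₂ b₃ b₄ z : G,
    RelG p a b₁ b₂ b₃ b₄ z ∧ gen6 a b₁ b₂ b₃ b₄ z ≤ S := by
  have p1 := hp.out.one_lt
  have cQ := h.card5 h'.card
  have c : ∀ n ≤ 4, Nat.card (Up S Q Z n) = p ^ (n + 1) := fun n => h.card_Up h'.c2 cQ
  have u4 : Up S Q Z 4 = Q := H91.eq_of_le_of_card_le (h.Up_le 4) (by rw [c 4 le_rfl, cQ])
  have n3 : ¬ Q ≤ Up S Q Z 3 := fun e => by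
    have := H91.card_le_of_le e
    rw [cQ, c 3 (by norm_num), Nat.pow_le_pow_iff_right p1] at this
    omega
  refine ⟨hp.out.five_le_of_ne_two_of_ne_three (fun e => h.odd.not_two_dvd_nat (e ▸ dvd_rfl))
    fun e => n3 (e ▸ h.Up_p.ge), ?_⟩
  have st : ∀ n {x}, x ∈ Up S Q Z (n + 2) → x ∉ Up S Q Z (n + 1) →
      ⁅a, x⁆ ∈ Up S Q Z (n + 1) ∧ ⁅a, x⁆ ∉ Up S Q Z n := fun n x h1 h2 =>
    ⟨comm_symm (h1.2.2 a h'.mem), fun e => h2 ((h.Up_succ h'.mem h'.nmem n).ge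
      ⟨h1.1, mem_St_one.2 ⟨h.nUp n (h.le h1.1), comm_symm e⟩⟩)⟩
  obtain ⟨b, q1, n1⟩ := SetLike.not_le_iff_exists.1 n3
  obtain ⟨u2, n2⟩ := st 2 (u4.ge q1) n1
  obtain ⟨u3, n3⟩ := st 1 u2 n2
  obtain ⟨u1, n4⟩ := st 0 u3 n3
  have q2 := u2.1
  have q3 := u3.1
  have q4 := u1.1
  have a4 : ⁅a, ⁅a, ⁅a, ⁅a, b⁆⁆⁆⁆ = 1 := commutatorElement_eq_one_iff_mul_comm.2 (h'.cen u1 a rfl)
  have cz : ∀ {x z}, x ∈ S → z ∈ Z → ⁅x, z⁆ = 1 := fun hx hz =>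
    commutatorElement_eq_one_iff_commute.2 (h.cm hz hx)
  have id : ∀ {x y}, x ∈ Q → y ∈ Q → ⁅⁅a, x⁆, ⁅a, y⁆⁆ * ⁅x, ⁅a, y⁆⁆ * ⁅⁅a, x⁆, y⁆ = 1 :=
    fun {x y} hx hy => by
      have e := h.comm_conj h'.mem hx hy
      have cx := comm_mem_of_nm (h.nQ h'.mem) hx
      have cy := comm_mem_of_nm (h.nQ h'.mem) hy
      rwa [conj_eq_comm, conj_eq_comm, h.comm_mul_r cy hy (mul_mem cx hx), h.comm_mul_l cx hx cy,
        h.comm_mul_l cx hx hy, ← mul_assoc, mul_eq_right] at e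
  have b24 := id q1 q4
  have b34 := id q2 q4
  have b23 := id q1 q3
  have b13 := id q1 q2
  simp only [a4, commutatorElement_one_right, one_mul] at b24 b34
  rw [b24, one_mul, mul_eq_one_iff_inv_eq] at b23
  rw [commutatorElement_self, mul_one, ← b23, inv_mul_eq_one] at b13
  have zZ := h.comm _ q1 _ q4
  have ne : ⁅b, ⁅a, ⁅a, ⁅a, b⁆⁆⁆⁆ ≠ 1 := fun e => by
    have g : ∀ n ≤ 3, ∀ y ∈ Up S Q Z (n + 1), y ∉ Up S Q Z n → ⁅y, ⁅a, ⁅a, ⁅a, b⁆⁆⁆⁆ = 1 →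
        ⁅a, ⁅a, ⁅a, b⁆⁆⁆ ∈ ce (Up S Q Z n) → ⁅a, ⁅a, ⁅a, b⁆⁆⁆ ∈ ce (Up S Q Z (n + 1)) :=
      fun n hn y h1 h2 h3 h4 => H91.Q5.mem_ce_gen (h.pg.to_le ((h.Up_le _).trans h.le)) (h.Up_mono n)
        (by rw [c n (by omega), c _ (by omega), pow_succ']) h4 h1 h2 (comm_symm (Y := ⊥) h3)
    exact n4 (h.zQ.le ⟨q4, u4 ▸ g 3 le_rfl b (u4.ge q1) n1 e (g 2 (by omega) _ u2 n2 b24
      (g 1 (by omega) _ u3 n3 b34 (g 0 (by omega) _ u1 n4 (commutatorElement_self _)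
      (h.ceZ (h.le q4)))))⟩)
  exact ⟨b, _, _, _, _, ⟨h'.pa, h'.exp _ q1, h.powZ zZ, rfl, rfl, rfl, a4, cz h'.mem zZ,
    (h.zpow_eq zZ ne).ge (h.comm _ q1 _ q2), b13.symm, rfl, b23.symm, b24, b34, cz (h.le q1) zZ,
    cz (h.le q2) zZ, cz (h.le q3) zZ, cz (h.le q4) zZ, ne⟩,
    gen6_le h'.mem (h.le q1) (h.le q2) (h.le q3) (h.le q4) (h.ZS zZ)⟩


end Cfsg.Agent.EX
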