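import Cfsg.Agent.EX.Basic
import Cfsg.Agent.SR3.Fus

/-! Project EX: no other conjugate of the centre lies in `Q`. -/

set_option autoImplicit false

namespace Cfsg.Agent.EX

open Subgroup Cfsg.Agent.SR3
open scoped commutatorElement

universe u

variable {G : Type u} [Group G] [Finite G] {p : ℕ} [hp : Fact p.Prime] {S Q Z E : Subgroup G}

theorem split (h : Xs p S Q Z) (m : Mv p S Q Z E) (om : ∀ g ∈ nm E, cj g Z ≤ Q → g ∈ nm Z) :
    E ≤ ce E ∧ (∀ x ∈ E, x ^ p = 1) ∧ (Nat.card E = p ^ 2 ∨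
      (S ≤ nm E ∧ Q ⊓ ce (E ⊓ Q) ≤ E ∧ Q ⊓ St S Z = E ⊓ Q)) := by
  obtain ⟨g, hg, hg'⟩ := SetLike.not_le_iff_exists.1 m.mv
  obtain ⟨z, hz, hz'⟩ := SetLike.not_le_iff_exists.1 fun e : Z ≤ ⊥ => by
    have := H91.card_le_of_le e
    rw [h.cZ, card_bot] at this
    exact hp.out.one_lt.not_ge this
  have ZE := m.ZE h
  have pE := h.pg.to_le m.le
  have gen : ∀ {k y}, y ∈ cj k Z → y ≠ 1 → zpowers y = cj k Z := fun {k y} hy hy' => by
    have := h.zpow_eq (mem_cj.1 hy) fun e => hy' (by simpa [mul_assoc] using congrArg (k * · * k⁻¹) e)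
    rw [← this, cj, MonoidHom.map_zpowers]
    simp [mul_assoc]
  have o1 : ∀ {k y}, k ∈ nm E → y ∈ cj k Z → y ∈ Q → y ∈ Z := fun {k y} hk hy hQ => by
    obtain rfl | e := em (y = 1)
    · exact one_mem _
    · rwa [cj_eq (om k hk (gen hy e ▸ zpowers_le.2 hQ))] at hy
  have k1 : ∀ {k y x}, k ∈ nm E → y ∈ cj k Z → y ∉ Z → x ∈ S → ⁅x, y⁆ = 1 → x ∈ E :=
    fun {k y x} hk hy hy' hx e => (m.key k hk fun e => hy' (cj_eq e ▸ hy)).le ⟨hx, by
      rw [← gen hy fun e => hy' (e ▸ one_mem _)]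
      exact H91.Q5.mem_ce_of fun _ ⟨i, e'⟩ => e' ▸ commutatorElement_eq_one_iff_commute.2
        ((commutatorElement_eq_one_iff_commute.1 e).zpow_right i)⟩
  have oc : ∀ {k y} a, y ∈ cj k Z → a * y * a⁻¹ ∈ cj (a * k) Z := fun a hy =>
    cj_cj _ _ Z ▸ conj_mem_cj a hy
  have k2 : ∀ {k y x}, k ∈ nm E → y ∈ cj k Z → y ∉ cj g Z → x ∈ S → ⁅g * x * g⁻¹, y⁆ = 1 → x ∈ E :=
    fun {k y x} hk hy hy' hx e => k1 (mul_mem (inv_mem hg) hk) (oc g⁻¹ hy)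
      (fun e => hy' (by simpa using mem_cj.2 (by simpa using e : g⁻¹ * y * g ∈ Z))) hx (by
        have := conj_comm g⁻¹ (g * x * g⁻¹) y
        rw [e] at this
        simpa [mul_assoc] using this.symm)
  have bot : ∀ {y}, y ∈ Z → y ∈ cj g Z → y = 1 := fun h1 h2 => (h.inf_cj hg').le ⟨h1, h2⟩
  set e := g * z * g⁻¹ with he
  have e1 : e ∈ cj g Z := conj_mem_cj g hz
  have eE : e ∈ E := conj_mem hg (ZE hz)
  have e0 : e ≠ 1 := fun e => hz' (by simpa [he] using e)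
  have eZ : e ∉ Z := fun e => e0 (bot e e1)
  have eQ : e ∉ Q := fun e => eZ (o1 hg e1 e)
  have eS := m.le eE
  have ce : ∀ x ∈ E, ⁅x, e⁆ = 1 := fun x hx => H91.Q5.comm_of_ce ((m.key g hg hg').ge hx).2 e1
  have gE : ∀ {y}, y ∈ E → y ∉ Q → E ⊓ Q ⊔ zpowers y = E := fun hy hy' =>
    sup_zpowers_eq pE inf_le_left (m.card h).le hy fun e => hy' e.2
  have nZ := m.le.trans h.nZ
  have st : ∀ {x Y}, E ≤ nm Y → x ∈ St (E ⊓ Q : Subgroup G) Y → ⁅x, e⁆ ∈ Y → x ∈ St E Y :=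
    fun n h1 h2 => gE eE eQ ▸ mem_St_sup_zpowers (inf_le_left.trans n) (n eE) h1 h2
  have s1 : E ≤ St E Z := fun x hx => st nZ (le_St_symm (A := E ⊓ Q) (fun f hf => st nZ
    (St_anti inf_le_right (h.StZ hf.2)) (by rw [ce f hf.1]; exact one_mem _)) nZ hx)
    (by rw [ce x hx]; exact one_mem _)
  have hgi : ∀ {x}, x ∈ E → g⁻¹ * x * g⁻¹⁻¹ ∈ E := conj_mem (inv_mem hg)
  have ab : E ≤ SR3.ce E := fun a ha => H91.Q5.mem_ce_of fun b hb => bot ((s1 ha).2 b hb) (mem_cj.2 (by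
    have := (s1 (hgi ha)).2 _ (hgi hb)
    rwa [← conj_comm, inv_inv] at this))
  have cm : ∀ {a b}, a ∈ E → b ∈ E → Commute a b := fun ha hb => (ab hb _ ha)
  have pz : ∀ x ∈ E, x ^ p ∈ Z := fun x hx => by
    obtain ⟨f, hf, k, rfl⟩ := (mem_sup_zpowers (ce_le_nm inf_le_left (ab eE))).1 ((gE eE eQ).ge hx)
    rw [(cm hf.1 (zpow_mem eE k)).mul_pow, ← zpow_natCast (e ^ k), ← zpow_mul, mul_comm k, zpow_mul,
      zpow_natCast, he, conj_pow, h.powZ hz]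
    simpa using h.pow hf.2
  have ex : ∀ x ∈ E, x ^ p = 1 := fun x hx => bot (pz x hx) (mem_cj.2 (by
    have := pz _ (hgi hx)
    rwa [conj_pow, inv_inv] at this))
  refine ⟨ab, ex, ?_⟩
  have T1 := h.St_one le_rfl h.nZ eS eQ
  set T := Q ⊓ St S Z
  have FT : E ⊓ Q ≤ T := T1 ▸ fun f hf => ⟨hf.2, mem_St_one.2 ⟨nZ hf.1, by
    rw [ce f hf.1]; exact one_mem _⟩⟩
  have nE : ∀ {q}, q ∈ Q → ⁅q, e⁆ ∈ E → q ∈ nm E := fun {q} hq hq' => mem_nm_of_cj_le (by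
    rw [← gE eE eQ, cj_sup, cj, cj, MonoidHom.map_zpowers, gE eE eQ]
    refine sup_le ?_ (zpowers_le.2 (E.mem_carrier.1 ((conj_eq_comm q e).symm.subst
      (motive := (· ∈ E)) (mul_mem hq' eE))))
    rintro _ ⟨f, hf, rfl⟩
    exact (conj_eq_comm q f).symm.subst (motive := (· ∈ E)) (mul_mem (ZE (h.comm q hq f hf.2)) hf.1))
  have cjS : ∀ {r} {X Y : Subgroup G}, r ∈ St X Y → g * r * g⁻¹ ∈ St (cj g X) (cj g Y) := fun hr =>
    cj_St g _ _ ▸ conj_mem_cj g hr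
  have ob : ∀ {L : Subgroup G} {r y c}, L ≤ E → Nat.card L ≤ p → r ∈ SR3.ce L → r ∈ St E L → y ∈ E →
      ⁅r, y⁆ ≠ 1 → c ∈ L → ∃ n : ℕ, r ^ n * y * (r ^ n)⁻¹ = c * y :=
    fun l1 l2 l3 l4 hy l5 hc => (orb (pE.to_le l1) bot_le (by simpa using l2) ((St_bot _).ge l3)
      (l4.2 _ hy) l5 hc).imp fun n e => by rw [conj_eq_comm, mul_inv_eq_one.1 e]
  have nT : S ≤ nm (Q ⊓ SR3.ce T) := fun s hs =>
    nm_inf (h.nQ hs) (nm_ce (nm_inf (h.nQ hs) (nm_St (le_normalizer hs) (h.nZ hs))))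
  obtain hT | hT := em (T ≤ E)
  swap
  · left
    obtain ⟨r, hr, hr'⟩ := SetLike.not_le_iff_exists.1 hT
    have r1 := cjS (St_anti m.le hr.2)
    rw [cj_eq hg] at r1
    have r2 : g * r * g⁻¹ ∈ nm E := St_le_nm (cj_eq hg ▸ cj_mono g ZE) le_rfl r1
    have R : ∀ q ∈ Q, ⁅q, e⁆ ∈ E → ⁅q, e⁆ ∈ Z := fun q hq hq' => by
      have q1 := comm_symm (comm_mem_of_nm (h.nQ eS) hq)
      have q2 := oc q e1
      obtain c | c := em (q * e * q⁻¹ ∈ cj g Z)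
      · exact o1 hg (mul_mem c (inv_mem e1)) q1
      obtain ⟨n, c⟩ := ob (cj_eq hg ▸ cj_mono g ZE) (by rw [card_cj, h.cZ])
        (cj_ce g Z ▸ conj_mem_cj g (h.ceZ (h.le hr.1))) r1 (conj_mem (nE hq hq') eE)
        (fun e => hr' (k2 (mul_mem (nE hq hq') hg) q2 c (h.le hr.1) e)) (inv_mem e1)
      have := oc ((g * r * g⁻¹) ^ n) q2
      rw [c, (cm (inv_mem eE) (conj_mem (nE hq hq') eE)).eq] at this
      exact o1 (mul_mem (pow_mem r2 n) (mul_mem (nE hq hq') hg)) this q1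
    have I : E ⊓ Q ⊓ SR3.ce T ≤ Z := fun y hy => by
      obtain ⟨q, hq, c⟩ := h.exists_comm eS eQ ⟨hy.1.2, hy.2⟩
      have := R q hq (by simpa using mul_mem (ZE c) hy.1.1)
      rwa [mul_mem_cancel_left this, inv_mem_iff] at c
    have c1 : Nat.card T ≤ p * Nat.card ↥(E ⊓ Q) := by
      have := idx (X := T) (Y := Z) (Z := ⊥) (a := e) (fun _ _ => nm_bot)
        (fun x hx => hx.2.2 e eS) bot_le
      rw [card_bot, mul_one, h.cZ, mul_comm] at this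
      exact this.trans (Nat.mul_le_mul_left _ (H91.card_le_of_le fun x hx =>
        ⟨k1 hg e1 eZ (h.le hx.1.1) (mem_St_one.1 hx.2).2, hx.1.1⟩))
    have pT := h.pg.to_le ((inf_le_left : T ≤ Q).trans h.le)
    have cT : ∀ {x y}, x ∈ T → x ∉ E ⊓ Q → y ∈ E → ⁅y, x⁆ = 1 → y ∈ SR3.ce T := fun hx hx' hy c =>
      H91.Q5.mem_ce_gen pT FT c1 (centralizer_le inf_le_left (ab hy)) hx hx' c
    have c2 := (h.card_ce (inf_le_right : E ⊓ Q ≤ Q) hr.1).trans (Nat.mul_le_mul_left p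
      (H91.card_le_of_le (show E ⊓ Q ⊓ centralizer {r} ≤ Z from fun y hy => I ⟨hy.1,
        cT hr (fun e => hr' e.1) hy.1.1 (commutatorElement_eq_one_iff_mul_comm.2 (hy.2 r rfl).symm)⟩)))
    obtain ⟨x, x1, x2, x3⟩ := h.lt_St (X := Q ⊓ SR3.ce T) (le_inf h.ZQ (h.Zce.trans (centralizer_le
      (inf_le_left.trans h.le : T ≤ S)))) inf_le_left h.nZ nT fun c => by
        have c3 := H91.card_le_of_le c
        have c4 := h.dual ((le_inf ZE h.ZQ).trans FT) inf_le_left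
        have c5 := h.big
        rw [h.cZ] at c2 c3
        have : p * p ^ 5 ≤ p * (p * p) * p := (Nat.mul_le_mul_left p c5).trans
          (c4 ▸ Nat.mul_le_mul (c1.trans (Nat.mul_le_mul_left p c2)) c3)
        have : p ^ 6 ≤ p ^ 4 := by nlinarith
        exact absurd ((Nat.pow_le_pow_iff_right hp.out.one_lt).1 this) (by norm_num)
    have : E ⊓ Q = Z := le_antisymm (fun y hy => I ⟨hy, cT ⟨x1.1, x3⟩ (fun e => x2 (I ⟨e, x1.2⟩))
      hy.1 (commutatorElement_eq_one_iff_mul_comm.2 (x1.2 y (FT hy)))⟩) (le_inf ZE h.ZQ)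
    rw [m.card h, this, h.cZ, sq]
  right
  have TF : T = E ⊓ Q := le_antisymm (le_inf hT inf_le_left) FT
  suffices K : Q ⊓ SR3.ce T ≤ E from ⟨(h.gen eS eQ).ge.trans (sup_le (fun q hq => nE hq
    (K (h.comm_mem_ce hq eS))) (zpowers_le.2 (le_normalizer eE))), TF ▸ K, TF⟩
  by_contra K
  obtain ⟨r, r1, r2, r3⟩ := h.lt_St (X := Q ⊓ SR3.ce T) (Y := T)
    (le_inf inf_le_left (TF ▸ inf_le_left.trans (ab.trans (centralizer_le inf_le_left))))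
    inf_le_left (fun s hs => nm_inf (h.nQ hs) (nm_St (le_normalizer hs) (h.nZ hs))) nT
    fun e => K (e.trans hT)
  have rE : r ∉ E := fun e => r2 (FT ⟨e, r1.1⟩)
  set c := ⁅r, e⁆ with hc
  have c1 : c ∈ T := r3.2 e eS
  have rn := nE r1.1 (hT c1)
  have lE : zpowers c ≤ E := zpowers_le.2 (hT c1)
  have s2 : r ∈ SR3.ce (zpowers c) := centralizer_le (zpowers_le.2 c1 : zpowers c ≤ T) r1.2
  have s3 : r ∈ St E (zpowers c) := st (ab.trans (ce_le_nm lE))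
    (TF ▸ ce_le_St le_rfl (zpowers_le.2 c1) r1.2) (mem_zpowers c)
  have s4 : r ∈ St T ⊥ := (St_bot _).ge r1.2
  have s5 : r ∈ St E T := St_anti m.le r3
  have t3 := cjS s3
  have t4 := cjS s4
  have t5 := cjS s5
  rw [cj_eq hg] at t3 t5
  rw [cj_eq (nm_bot : g ∈ _)] at t4
  have rn' : g * r * g⁻¹ ∈ nm E := mul_mem (mul_mem hg rn) (inv_mem hg)
  have ph : Phi E = ⊥ := le_bot_iff.1 ((H3.map_frattini_le_iff pE).2
    ⟨commutator_le.2 fun a ha b hb => commutatorElement_eq_one_iff_commute.2 (cm ha hb), ex⟩)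
  have fin : ∀ k ∈ nm E, k * r * k⁻¹ ∈ S ⊓ nm E ⊔ SR3.ce E →
      k * (g * r * g⁻¹) * k⁻¹ ∈ S ⊓ nm E ⊔ SR3.ce E → False := by
    intro k hk a b
    have l : S ⊓ nm E ⊔ SR3.ce E ≤ SR3.ce Z := sup_le (inf_le_left.trans h.ceZ) (centralizer_le ZE)
    have w : ∀ {x}, k * x * k⁻¹ ∈ SR3.ce Z → ⁅x, k⁻¹ * z * k⁻¹⁻¹⁆ = 1 := fun {x} hx => by
      have := conj_comm k⁻¹ (k * x * k⁻¹) z
      rw [H91.Q5.comm_of_ce hx hz] at this
      simpa [mul_assoc] using this.symm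
    have y1 := conj_mem_cj k⁻¹ hz
    have := bot (by_contra fun e => rE (k1 (inv_mem hk) y1 e (h.le r1.1) (w (l a))))
      (by_contra fun e => rE (k2 (inv_mem hk) y1 e (h.le r1.1) (w (l b))))
    exact hz' (conj_eq_one_iff.1 this)
  obtain b1 | b1 := em (c ∈ cj g T)
  · obtain ⟨k, hk, a, b⟩ := m.loc.fus_pair (ph.le.trans bot_le) (zpowers_le.2 b1)
      (cj_eq hg ▸ cj_mono g hT) rn' rn (ph ▸ t4) t5 (ph ▸ (St_bot _).ge s2) s3
    exact fin k hk b a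
  have l' : cj g (zpowers c) = zpowers (g * c * g⁻¹) := MonoidHom.map_zpowers _ _
  have t2 : g * r * g⁻¹ ∈ SR3.ce (cj g (zpowers c)) := cj_ce g _ ▸ conj_mem_cj g s2
  obtain b2 | b2 := em (g * c * g⁻¹ ∈ T)
  · obtain ⟨k, hk, a, b⟩ := m.loc.fus_pair (ph.le.trans bot_le) (l' ▸ zpowers_le.2 b2) hT rn rn'
      (ph ▸ s4) s5 (ph ▸ (St_bot _).ge t2) t3
    exact fin k hk a b
  have c2 := conj_mem hg (hT c1)
  obtain ⟨f, hf, k, c3⟩ := (mem_sup_zpowers (ce_le_nm inf_le_left (ab c2))).1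
    ((gE c2 fun e => b2 (FT ⟨c2, e⟩)).ge eE)
  have key : ∀ d ∈ T, d ∉ cj g T → ∀ a ∈ nm E, a * e * a⁻¹ = d * e → d * f ∈ Z := by
    intro d hd hd' a ha c4
    have y1 := mul_mem (hT hd) eE
    have y2 : d * e ∉ cj g T := fun e' => hd'
      ((mul_mem_cancel_right (cj_mono g ((le_inf ZE h.ZQ).trans FT) e1)).1 e')
    obtain ⟨n, c5⟩ := ob (cj_eq hg ▸ cj_mono g lE) (by
        rw [card_cj, Nat.card_zpowers]
        exact Nat.le_of_dvd hp.out.pos (orderOf_dvd_of_pow_eq_one (ex _ (hT c1))))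
      t2 t3 y1 (fun e' => r2 (by
        have y3 := hgi y1
        refine (h.St_one le_rfl h.nZ (m.le y3)
          fun e'' => y2 (mem_cj.2 (by simpa using FT ⟨y3, e''⟩))).le ?_
        have := conj_comm g⁻¹ (g * r * g⁻¹) (d * e)
        rw [e'] at this
        refine ⟨r1.1, mem_St_one.2 ⟨h.nZ (h.le r1.1), ?_⟩⟩
        rw [show ⁅r, g⁻¹ * (d * e) * g⁻¹⁻¹⁆ = 1 by simpa [mul_assoc] using this.symm]
        exact one_mem _)) (l' ▸ inv_mem (zpow_mem (mem_zpowers _) k))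
    have := oc ((g * r * g⁻¹) ^ n) (oc a e1)
    rw [c4, c5, (cm (inv_mem (zpow_mem c2 k)) y1).eq, ← c3, ← mul_assoc d, mul_inv_cancel_right] at this
    exact o1 (mul_mem (pow_mem rn' n) (mul_mem ha hg)) this (mul_mem hd.1 hf.2)
  have a1 := key c c1 b1 r rn (conj_eq_comm r e)
  have a2 := key c⁻¹ (inv_mem c1) (fun e => b1 (inv_mem_iff.1 e)) r⁻¹ (inv_mem rn) (by
    have : r * c = c * r := (r1.2 c c1).symm
    rw [eq_inv_mul_iff_mul_eq, ← mul_assoc, ← mul_assoc, ← Commute.eq (Commute.inv_left this), hc,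
      commutatorElement_def]
    group)
  have := dvd_of_zpow_mem (k := 2) (x := c) (Y := Z) (by rw [ex c (hT c1)]; exact one_mem _)
    (fun e' => r2 (T1 ▸ ⟨r1.1, mem_St_one.2 ⟨h.nZ (h.le r1.1), e'⟩⟩))
    (by rw [zpow_two]; simpa [mul_assoc] using mul_mem a1 (inv_mem a2))
  exact (Nat.not_even_iff_odd.2 h.odd) ((Nat.prime_dvd_prime_iff_eq hp.out Nat.prime_two).1
    (Int.natCast_dvd_natCast.1 this) ▸ even_two)


end Cfsg.Agent.EX
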